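import Cfsg.Agent.GpUn.Row
import Cfsg.Agent.S0278
import Cfsg.Agent.S0280
import Cfsg.Agent.S1577
import Cfsg.Agent.EvenType.CTwoCard
import Cfsg.Agent.H320.Kill.RankTwo
import Cfsg.Agent.Prune
set_option linter.all false
prune_inst 0x7f00000000000000000000000000000000000000000000000000000000000000000000000000000000000000000000000000000000000000000000000000000000000000000000000000000000000000003fffffffffffffffffffffffffffbeffbdffffffff
open scoped Cfsg.Agent.FastGrp

-- part: H320/Kill/Unit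
section
/-!
# The groups `PSU_n(q)`, `n ≥ 4`, `q` even, and `Co2` (helper320)
-/

set_option autoImplicit false

namespace Cfsg.Agent.H320.Kill

open Cfsg Module Matrix Subgroup
open Cfsg.Agent.GpUn
open Cfsg.Agent.LieClassical.HermBasic Cfsg.Agent.LieClassical.HermSiegel
open Cfsg.Agent.LieClassical.SUBasic (suDiag mem_center_SU_iff suScalar coe_suScalar)
open Cfsg.Agent.ClassicalGeometry.HermOrtho
open Cfsg.Agent.ClassicalGeometry.PSUAutBasic

universe u

theorem three_dvd_sq_sub {q : ℕ} (h3 : ¬ 3 ∣ q) : 3 ∣ q ^ 2 - 1 := by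
  have h : q % 3 = 1 ∨ q % 3 = 2 := by omega
  have h1 : q ^ 2 % 3 = 1 := by
    rcases h with h | h <;> rw [Nat.pow_mod, h]
  omega

section unit

variable {F : Type u} [Field F] [Fintype F] {q n : ℕ}

theorem three_dvd_SU (hF : Fintype.card F = q ^ 2) (h3 : ¬ 3 ∣ q) {m : ℕ} (hm : 2 ≤ m) :
    3 ∣ Nat.card (SU m F q) := by
  obtain ⟨m, rfl⟩ : ∃ k, m = k + 1 := ⟨m - 1, by omega⟩
  have h := Cfsg.Agent.S0278.result hF (m + 1) (by omega)
  rw [Finset.prod_range_succ'] at h
  simp only [Even.zero, if_true, zero_add, pow_one] at h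
  have h1 : Nat.card (SU (m + 1) F q) = q ^ ((m + 1) * (m + 1 - 1) / 2) *
      ∏ k ∈ Finset.range m, (if Even (k + 1) then q ^ (k + 1 + 1) + 1 else q ^ (k + 1 + 1) - 1) := by
    have hq : 0 < q + 1 := by omega
    apply Nat.eq_of_mul_eq_mul_left hq
    rw [h]
    ring
  rw [h1]
  apply Dvd.dvd.mul_left
  refine Dvd.dvd.trans ?_ (Finset.dvd_prod_of_mem _ (Finset.mem_range.mpr (show 0 < m by omega)))
  simp only [zero_add, show ¬ Even 1 by decide, if_false]
  exact three_dvd_sq_sub h3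

theorem not_good_kgrp (hF : Fintype.card F = q ^ 2) (hn : 3 ≤ n) (h3 : ¬ 3 ∣ q)
    {U : Submodule F (Fin n → F)} (hU : ND q U) {m : ℕ} (hm : finrank F U = m) (hm3 : 3 ≤ m)
    (h32 : ¬ (m = 3 ∧ q = 2)) (hmn : m < n) {x : PSU n F q} (hxp : orderOf x = 3)
    (hx : ∀ g ∈ fixG q (hermPerp q (U : Set (Fin n → F))), pr n F q g * x = x * pr n F q g)
    (hx2 : ∀ g : SU n F q, pr n F q g * x = x * pr n F q g → ∀ u ∈ U, act g u ∈ U) : ¬ Good (PSU n F q) := by
  have hK := comp hF hn hU hm hm3 h32 hmn hx hx2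
  obtain ⟨e⟩ := kgrp_equiv hF hn hU hm hmn
  refine not_good_of_comp hxp hK ?_
  rw [← Nat.card_congr e.toEquiv]
  exact three_dvd_SU hF h3 (by omega)

/-- **The diagonal case.** -/
theorem not_good_diag (hF : Fintype.card F = q ^ 2) (hn : 4 ≤ n) (h3 : ¬ 3 ∣ q)
    (a : Fin n → F) (hd : ∏ i, a i = 1) (hap : ∀ i, a i ^ 3 = 1) (ha : ∀ i, a i ^ (q + 1) = 1)
    {c : F} (S : Finset (Fin n)) (haS : ∀ i ∈ S, a i = c) (haS' : ∀ i ∉ S, a i ≠ c) {m : ℕ} (hm : S.card = m)
    (hm3 : 3 ≤ m) (h32 : ¬ (m = 3 ∧ q = 2)) (hmn : m < n)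
    (hsep : ∀ g : SU n F q, pr n F q g * pr n F q (suDiag q a hd ha) = pr n F q (suDiag q a hd ha) * pr n F q g →
      g * suDiag q a hd ha = suDiag q a hd ha * g) : ¬ Good (PSU n F q) := by
  classical
  have h3f : Fact (Nat.Prime 3) := ⟨Nat.prime_three⟩
  set x : SU n F q := suDiag q a hd ha with hxdef
  have hx : ∀ v i, act x v i = a i * v i := act_suDiag a hd ha
  have hU := nd_cU hF S
  have hxU : ∀ u, u ∈ cU F S ↔ act x u = c • u := by
    intro u
    constructor
    · intro hu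
      funext i
      rw [hx, Pi.smul_apply, smul_eq_mul]
      by_cases hi : i ∈ S
      · rw [haS i hi]
      · rw [hu i hi, mul_zero, mul_zero]
    · intro h1 i hi
      have h2 := congrFun h1 i
      rw [hx, Pi.smul_apply, smul_eq_mul] at h2
      have h3 : (a i - c) * u i = 0 := by rw [sub_mul, h2, sub_self]
      exact (mul_eq_zero.1 h3).resolve_left (sub_ne_zero.2 (haS' i hi))
  have hxp : x ^ 3 = 1 := by
    apply ext_act
    intro v
    funext i
    rw [act_pow_of hx, hap, one_mul, act_one]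
  obtain ⟨i0, hi0⟩ : ∃ i, i ∈ S := Finset.card_pos.1 (by omega)
  obtain ⟨i1, hi1⟩ : ∃ i, i ∉ S := by
    by_contra hcon
    push Not at hcon
    have h1 : S = Finset.univ := Finset.eq_univ_iff_forall.2 hcon
    rw [h1, Finset.card_univ, Fintype.card_fin] at hm
    omega
  have hpx : pr n F q x ≠ 1 := by
    intro h1
    obtain ⟨d, -, -, hd⟩ := exists_scalar_of_mem_center hF (by omega) (pr_eq_one_iff.1 h1)
    have h2 : ∀ i, a i = d := by
      intro i
      have h3 := congrFun (hd (Pi.single i 1)) i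
      rwa [hx, Pi.smul_apply, Pi.single_eq_same, smul_eq_mul, mul_one, mul_one] at h3
    exact haS' i1 hi1 (by rw [h2 i1, ← h2 i0, haS i0 hi0])
  refine not_good_kgrp hF (by omega) h3 hU ((finrank_cU S).trans hm) hm3 h32 hmn (x := pr n F q x) ?_ ?_ ?_
  · exact orderOf_eq_prime (by rw [← map_pow, hxp, map_one]) hpx
  · intro g hg
    rw [← map_mul, ← map_mul]
    congr 1
    refine ext_dec hF hU (fun u hu => ?_) fun w hw => ?_
    · have h1 := act_mem_of_fixG hF hU hg hu
      rw [act_mul, act_mul, (hxU u).1 hu, (hxU _).1 h1, act_smul]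
    · have h1 : act x w ∈ hermPerp q (cU F S : Set (Fin n → F)) := by
        rw [perp_cU hF] at hw ⊢
        intro i hi
        rw [hx, hw i hi, mul_zero]
      rw [act_mul, act_mul, hg w hw, hg _ h1]
  · intro g hg u hu
    have h1 := hsep g hg
    rw [hxU, ← act_mul, ← h1, act_mul, (hxU u).1 hu, act_smul]

/-- **`n ≥ 6`, or `n = 5` and `q ≥ 4`; `3` divides `q + 1`.** -/
theorem not_good_ge (hF : Fintype.card F = q ^ 2) (hpq : 3 ∣ q + 1) (hn : 5 ≤ n) (h5 : ¬ (n = 5 ∧ q = 2)) :
    ¬ Good (PSU n F q) := by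
  classical
  have h3f : Fact (Nat.Prime 3) := ⟨Nat.prime_three⟩
  obtain ⟨u, hu⟩ := exists_root hF hpq
  set c : F := (u : F) with hc
  have hcp : c ^ 3 = 1 := by
    rw [hc, ← Units.val_pow_eq_pow_val, ← hu, pow_orderOf_eq_one, Units.val_one]
  have hc0 : c ≠ 0 := u.ne_zero
  have hc1 : c ≠ 1 := by
    intro h1
    have h2 : u = 1 := Units.ext h1
    rw [h2, orderOf_one] at hu
    exact absurd hu (by norm_num)
  set a : Fin n → F := fun i => if i.val = 0 then c else if i.val = 1 then c⁻¹ else 1 with ha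
  have ha0 : a ⟨0, by omega⟩ = c := rfl
  have ha1 : a ⟨1, by omega⟩ = c⁻¹ := rfl
  have ha2 : ∀ i : Fin n, 2 ≤ i.val → a i = 1 := by
    intro i hi
    rw [ha]
    simp only [if_neg (show ¬ i.val = 0 by omega), if_neg (show ¬ i.val = 1 by omega)]
  have hcases : ∀ i : Fin n, i = ⟨0, by omega⟩ ∨ i = ⟨1, by omega⟩ ∨ 2 ≤ i.val := by
    intro i
    rcases Nat.lt_or_ge i.val 2 with h1 | h1
    · rcases Nat.lt_or_ge i.val 1 with h2 | h2
      · exact Or.inl (Fin.ext (by show i.val = 0; omega))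
      · exact Or.inr (Or.inl (Fin.ext (by show i.val = 1; omega)))
    · exact Or.inr (Or.inr h1)
  have hap : ∀ i, a i ^ 3 = 1 := by
    intro i
    rcases hcases i with rfl | rfl | hi
    · rw [ha0, hcp]
    · rw [ha1, inv_pow, hcp, inv_one]
    · rw [ha2 i hi, one_pow]
  have haq : ∀ i, a i ^ (q + 1) = 1 := by
    intro i
    obtain ⟨j, hj⟩ := hpq
    rw [hj, pow_mul, hap, one_pow]
  have hd : ∏ i, a i = 1 := by
    rw [Finset.prod_eq_mul (⟨0, by omega⟩ : Fin n) ⟨1, by omega⟩ (by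
      intro h1
      exact zero_ne_one (congrArg Fin.val h1))]
    · rw [ha0, ha1, mul_inv_cancel₀ hc0]
    · rintro i - ⟨h1, h2⟩
      rcases hcases i with h3 | h3 | hi
      · exact absurd h3 h1
      · exact absurd h3 h2
      · exact ha2 i hi
    · intro h1
      exact absurd (Finset.mem_univ _) h1
    · intro h1
      exact absurd (Finset.mem_univ _) h1
  have hS : ∀ i : Fin n, i ∈ (Finset.univ.filter fun i : Fin n => 2 ≤ i.val) ↔ a i = 1 := by
    intro i
    rw [Finset.mem_filter]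
    constructor
    · rintro ⟨-, hi⟩
      exact ha2 i hi
    · intro h1
      refine ⟨Finset.mem_univ _, ?_⟩
      rcases hcases i with rfl | rfl | hi
      · rw [ha0] at h1
        exact absurd h1 hc1
      · rw [ha1, inv_eq_one] at h1
        exact absurd h1 hc1
      · exact hi
  have hq2 := two_le hF
  refine not_good_diag hF (by omega) (by omega) a hd hap haq (c := 1)
    (Finset.univ.filter fun i => 2 ≤ i.val) (fun i hi => (hS i).1 hi) (fun i hi h1 => hi ((hS i).2 h1))
    (card_filter_ge n 2) (by omega) ?_ (by omega) ?_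
  · rintro ⟨h1, h2⟩
    exact h5 ⟨by omega, h2⟩
  · intro g hg
    refine comm_of_dim hF (by omega) ?_ hg
    have h1 : cU F (Finset.univ.filter fun i : Fin n => 2 ≤ i.val) ≤ fx (suDiag q a hd haq) := by
      intro v hv
      rw [mem_fx]
      funext i
      rw [act_suDiag]
      by_cases hi : i ∈ (Finset.univ.filter fun i : Fin n => 2 ≤ i.val)
      · rw [(hS i).1 hi, one_mul]
      · rw [hv i hi, mul_zero]
    have h2 := Submodule.finrank_mono h1
    rw [finrank_cU, card_filter_ge] at h2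
    omega

/-- `3` does not divide `n`: `diag(c, ..., c, c^{1 - n})` -/
theorem not_good_scalar (hF : Fintype.card F = q ^ 2) (hpq : 3 ∣ q + 1) (hn : 4 ≤ n) (hn3 : ¬ 3 ∣ n)
    (h4 : ¬ (n = 4 ∧ q = 2)) : ¬ Good (PSU n F q) := by
  classical
  have h3f : Fact (Nat.Prime 3) := ⟨Nat.prime_three⟩
  obtain ⟨u, hu⟩ := exists_root hF hpq
  set c : F := (u : F) with hc
  have hcp : c ^ 3 = 1 := by
    rw [hc, ← Units.val_pow_eq_pow_val, ← hu, pow_orderOf_eq_one, Units.val_one]
  have hc0 : c ≠ 0 := u.ne_zero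
  have hcn : c ^ n ≠ 1 := by
    intro h1
    have h2 : u ^ n = 1 := Units.ext h1
    have h3 := orderOf_dvd_of_pow_eq_one h2
    rw [hu] at h3
    exact hn3 h3
  obtain ⟨n, rfl⟩ : ∃ k, n = k + 1 := ⟨n - 1, by omega⟩
  set a : Fin (n + 1) → F := Fin.cons (c ^ n)⁻¹ (fun _ => c) with ha
  have ha0 : a 0 = (c ^ n)⁻¹ := rfl
  have ha1 : ∀ i : Fin (n + 1), i ≠ 0 → a i = c := by
    intro i hi
    obtain ⟨j, rfl⟩ := Fin.exists_succ_eq.mpr hi
    rw [ha, Fin.cons_succ]
  have hne : (c ^ n)⁻¹ ≠ c := by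
    intro h1
    apply hcn
    rw [pow_succ]
    nth_rewrite 2 [← h1]
    exact mul_inv_cancel₀ (pow_ne_zero _ hc0)
  have hap : ∀ i, a i ^ 3 = 1 := by
    intro i
    by_cases hi : i = 0
    · rw [hi, ha0, inv_pow, ← pow_mul, mul_comm, pow_mul, hcp, one_pow, inv_one]
    · rw [ha1 i hi, hcp]
  have haq : ∀ i, a i ^ (q + 1) = 1 := by
    intro i
    obtain ⟨j, hj⟩ := hpq
    rw [hj, pow_mul, hap, one_pow]
  have hd : ∏ i, a i = 1 := by
    rw [Fin.prod_univ_succ, ha0]
    simp only [ha, Fin.cons_succ, Finset.prod_const, Finset.card_univ, Fintype.card_fin]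
    exact inv_mul_cancel₀ (pow_ne_zero _ hc0)
  have hS : ∀ i : Fin (n + 1), i ∈ (Finset.univ.erase (0 : Fin (n + 1))) ↔ a i = c := by
    intro i
    rw [Finset.mem_erase]
    constructor
    · rintro ⟨hi, -⟩
      exact ha1 i hi
    · intro h1
      refine ⟨?_, Finset.mem_univ _⟩
      rintro rfl
      exact hne (by rw [← ha0, h1])
  have hq2 := two_le hF
  refine not_good_diag hF (by omega) (by omega) a hd hap haq (c := c)
    (Finset.univ.erase (0 : Fin (n + 1))) (fun i hi => (hS i).1 hi) (fun i hi h1 => hi ((hS i).2 h1)) (m := n)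
    (by rw [Finset.card_erase_of_mem (Finset.mem_univ _), Finset.card_univ, Fintype.card_fin]; rfl)
    (by omega) ?_ (by omega) ?_
  · rintro ⟨h1, h2⟩
    exact h4 ⟨by omega, h2⟩
  · intro g hg
    set x : SU (n + 1) F q := suDiag q a hd haq with hx
    have hxp : x ^ 3 = 1 := by
      apply ext_act
      intro v
      funext i
      rw [act_pow_of (a := a) (act_suDiag a hd haq), hap, one_mul, act_one]
    rw [← map_mul, ← map_mul] at hg
    obtain ⟨z, hz, hz1⟩ := exists_center_mul hg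
    have hzc := mem_center_iff.1 hz
    have h2 : g⁻¹ * (x * g) = z * x := by
      rw [hz1, mul_assoc g, inv_mul_cancel_left, hzc]
    have h3 : (z * x) ^ 3 = 1 := by
      rw [← h2]
      have h4 := conj_pow (i := 3) (a := g⁻¹) (b := x)
      rw [inv_inv] at h4
      rw [← mul_assoc, h4, hxp, mul_one, inv_mul_cancel]
    have h5 : Commute z x := (hzc x).symm
    rw [h5.mul_pow, hxp, mul_one] at h3
    obtain ⟨e, hen, heq, rfl⟩ := (mem_center_SU_iff hF (by omega) z).1 hz
    have he3 : e ^ 3 = 1 := by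
      have h6 : act ((suScalar q e hen heq) ^ 3) (Pi.single (0 : Fin (n + 1)) (1 : F)) =
          act (1 : SU (n + 1) F q) (Pi.single (0 : Fin (n + 1)) (1 : F)) := by rw [h3]
      rw [pow_succ, pow_two, act_mul, act_mul, act_suScalar, act_suScalar, act_suScalar, act_one, smul_smul,
        smul_smul] at h6
      have h7 := congrFun h6 0
      rw [Pi.smul_apply, Pi.single_eq_same, smul_eq_mul, mul_one] at h7
      rw [← h7]
      ring
    have he1 : e = 1 := by
      have h6 : orderOf e ∣ 3 := orderOf_dvd_of_pow_eq_one he3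
      have h7 : orderOf e ∣ n + 1 := orderOf_dvd_of_pow_eq_one hen
      rcases (Nat.dvd_prime Nat.prime_three).mp h6 with h8 | h8
      · exact orderOf_eq_one_iff.mp h8
      · rw [h8] at h7
        exact absurd h7 hn3
    rw [hz1]
    have hz0 : suScalar q e hen heq = 1 := by
      apply ext_act
      intro v
      rw [act_suScalar, he1, one_smul, act_one]
    rw [hz0, mul_one]

/-! ### `3` does not divide `q + 1` -/

/-- Lifting. -/
theorem exists_lift3 (hF : Fintype.card F = q ^ 2) (hn : 3 ≤ n) {p : ℕ} [Fact p.Prime] (hpq : p.Coprime (q + 1))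
    {k : ℕ} (h : PRankAtLeast p k (PSU n F q)) :
    ∃ P : Subgroup (SU n F q), (∀ a ∈ P, ∀ b ∈ P, a * b = b * a) ∧ (∀ a ∈ P, a ^ p = 1) ∧ p ^ k ≤ Nat.card P := by
  obtain ⟨A, hA, hAp, hA4⟩ := h
  have hcomm : ∀ g h : SU n F q, g ^ p = 1 → h ^ p = 1 → pr n F q g ∈ A → pr n F q h ∈ A → g * h = h * g := by
    intro g h hg hh hgA hhA
    refine comm_of_pr hF hn hpq hh ?_
    exact congrArg Subtype.val (hA.is_comm.comm ⟨_, hgA⟩ ⟨_, hhA⟩)
  let P : Subgroup (SU n F q) :=
    { carrier := {g | g ^ p = 1 ∧ pr n F q g ∈ A}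
      one_mem' := ⟨one_pow _, by rw [map_one]; exact A.one_mem⟩
      mul_mem' := by
        rintro g h ⟨hg, hgA⟩ ⟨hh, hhA⟩
        have hc : Commute g h := hcomm g h hg hh hgA hhA
        exact ⟨by rw [hc.mul_pow, hg, hh, one_mul], by rw [map_mul]; exact A.mul_mem hgA hhA⟩
      inv_mem' := by
        rintro g ⟨hg, hgA⟩
        exact ⟨by rw [inv_pow, hg, inv_one], by rw [map_inv]; exact A.inv_mem hgA⟩ }
  refine ⟨P, fun a ha b hb => hcomm a b ha.1 hb.1 ha.2 hb.2, fun a ha => ha.1, hA4.trans ?_⟩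
  have hsurj : ∀ a : A, ∃ g : P, pr n F q g.1 = a.1 := by
    rintro ⟨a, ha⟩
    obtain ⟨g, rfl⟩ := pr_surjective (n := n) (F := F) (q := q) a
    have h1 : g ^ p ∈ center (SU n F q) := by
      rw [← pr_eq_one_iff, map_pow]
      exact hAp _ ha
    obtain ⟨j, hj1, hj2⟩ := Nat.chineseRemainder hpq 1 0
    have h2 : g ^ j ∈ P := by
      refine ⟨?_, ?_⟩
      · rw [← pow_mul, mul_comm, pow_mul]
        obtain ⟨k, hk⟩ := (Nat.modEq_zero_iff_dvd.1 hj2)
        rw [hk, pow_mul, center_pow hF hn h1, one_pow]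
      · rw [map_pow]
        exact A.pow_mem ha _
    refine ⟨⟨g ^ j, h2⟩, ?_⟩
    show pr n F q (g ^ j) = _
    rw [map_pow]
    have h3 : pr n F q g ^ j = pr n F q g ^ 1 := by
      rw [pow_eq_pow_iff_modEq]
      exact hj1.of_dvd (orderOf_dvd_of_pow_eq_one (hAp _ ha))
    rw [h3, pow_one]
  choose f hf using hsurj
  exact Nat.card_le_card_of_injective f fun a b hab => Subtype.ext (by rw [← hf a, ← hf b, hab])

/-- **A good element.** -/
theorem exists_good3 (hF : Fintype.card F = q ^ 2) {p : ℕ} [Fact p.Prime] (hp : (p : F) ≠ 0) (hpq : p.Coprime (q + 1))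
    {P : Subgroup (SU n F q)} (hPc : ∀ a ∈ P, ∀ b ∈ P, a * b = b * a) (hPp : ∀ a ∈ P, a ^ p = 1)
    {k : ℕ} (hP4 : p ^ (k + 1) ≤ Nat.card P) :
    ∃ x ∈ P, x ≠ 1 ∧ ND q (fx x) ∧ 2 * k ≤ finrank F (fx x) := by
  have hP0 := (Fact.out : p.Prime)
  have htop : P ⊓ fixG q (⊤ : Submodule F (Fin n → F)) = ⊥ := by
    rw [Subgroup.eq_bot_iff_forall]
    rintro g ⟨-, hg⟩
    exact eq_one_of_top fun w => hg w trivial
  have hne : ∃ x ∈ P, x ∉ fixG q (⊤ : Submodule F (Fin n → F)) := by
    by_contra hcon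
    push Not at hcon
    have h1 : P ⊓ fixG q (⊤ : Submodule F (Fin n → F)) = P := inf_eq_left.2 hcon
    rw [htop] at h1
    rw [← h1, Subgroup.card_bot] at hP4
    have h2 : 1 < p ^ (k + 1) := Nat.one_lt_pow (by omega) hP0.one_lt
    omega
  obtain ⟨x, hxP, hxU, hU', hU'P, hc, hd⟩ := step hF hp hpq hPc hPp (nd_top hF) (fun g _ u _ => trivial) hne
  rw [top_inf_eq] at hU' hU'P hc hd
  rw [htop, Subgroup.card_bot, mul_one] at hc
  have h3 : p ^ k * Nat.card (P ⊓ fixG q (fx x) : Subgroup (SU n F q)) ≤ Nat.card P :=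
    calc p ^ k * Nat.card (P ⊓ fixG q (fx x) : Subgroup (SU n F q)) ≤ p ^ k * p := Nat.mul_le_mul_left _ hc
      _ = p ^ (k + 1) := by ring
      _ ≤ Nat.card P := hP4
  refine ⟨x, hxP, ?_, hU', ?_⟩
  · rintro rfl
    exact hxU fun w _ => act_one w
  · exact chain hF hp hpq hPc hPp k _ hU' hU'P h3

theorem not_good_coprime (hF : Fintype.card F = q ^ 2) (hn : 3 ≤ n) (hF3 : (3 : F) ≠ 0) (h3 : ¬ 3 ∣ q)
    (hpq : ¬ 3 ∣ q + 1) : ¬ Good (PSU n F q) := by
  intro hG
  have h3f : Fact (Nat.Prime 3) := ⟨Nat.prime_three⟩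
  have hpq' : Nat.Coprime 3 (q + 1) := (Nat.Prime.coprime_iff_not_dvd Nat.prime_three).mpr hpq
  have hF3' : ((3 : ℕ) : F) ≠ 0 := by exact_mod_cast hF3
  obtain ⟨A, hAc, hAp, hA4⟩ := exists_lift3 hF hn hpq' hG.three
  obtain ⟨x, hxA, hx1, hU, hm⟩ := exists_good3 hF hF3' hpq' hAc hAp (k := 2) hA4
  have hxp := hAp x hxA
  have hAU : ∀ g ∈ A, ∀ u ∈ fx x, act g u ∈ fx x := by
    intro g hg u hu
    rw [mem_fx, ← act_mul, hAc x hxA g hg, act_mul, mem_fx.1 hu]
  have hmn : finrank F (fx x) < n := by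
    have h1 := Submodule.finrank_le (fx x)
    rw [finrank_fin_fun] at h1
    refine lt_of_le_of_ne h1 fun h2 => hx1 ?_
    have h3 : fx x = ⊤ := Submodule.eq_top_of_finrank_eq (by rw [h2, finrank_fin_fun])
    exact eq_one_of_top fun w => by
      have : w ∈ fx x := by rw [h3]; trivial
      exact this
  refine not_good_kgrp hF hn h3 hU rfl (by omega) (by omega) hmn (x := pr n F q x) ?_ ?_ ?_ hG
  · refine orderOf_eq_prime (by rw [← map_pow, hxp, map_one]) fun h1 => hx1 ?_
    exact eq_one_of_center hF hn hpq' (pr_eq_one_iff.1 h1) hxp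
  · intro g hg
    rw [← map_mul, ← map_mul]
    congr 1
    refine ext_dec hF hU (fun u hu => ?_) fun w hw => ?_
    · rw [act_mul, act_mul, mem_fx.1 hu]
      exact (mem_fx.1 (act_mem_of_fixG hF hU hg hu)).symm
    · rw [act_mul, act_mul, hg w hw]
      exact hg _ (act_perp (fun u hu => hAU _ (A.inv_mem hxA) u hu) hw)
  · intro g hg u hu
    have h1 := comm_of_pr hF hn hpq' hxp hg
    rw [mem_fx, ← act_mul, ← h1, act_mul, mem_fx.1 hu]

/-- **`PSU_n(q)`, `q` even, `(n, q) ≠ (4, 2)`.** -/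
theorem not_good_psu {k : ℕ} (hF : Fintype.card F = q ^ 2) (hq : q = 2 ^ k) (hn : 3 ≤ n)
    (h4 : ¬ (n = 4 ∧ q = 2)) : ¬ Good (PSU n F q) := by
  have hF3 : (3 : F) ≠ 0 := three_ne_zero_of_card (m := k * 2) (by rw [hF, hq, ← pow_mul])
  have h3 : ¬ 3 ∣ q := by
    intro h
    rw [hq] at h
    exact absurd (Nat.prime_three.dvd_of_dvd_pow h) (by norm_num)
  by_cases hpq : 3 ∣ q + 1
  · by_cases hn3 : n = 3
    · subst hn3
      exact not_good_of_rank (rank_psu hF hF3)
    by_cases h5 : 5 ≤ n ∧ ¬ (n = 5 ∧ q = 2)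
    · exact not_good_ge hF hpq h5.1 h5.2
    · refine not_good_scalar hF hpq (by omega) ?_ h4
      have : n = 4 ∨ n = 5 := by omega
      rcases this with rfl | rfl <;> norm_num
  · exact not_good_coprime hF hn hF3 h3 hpq

end unit

end Cfsg.Agent.H320.Kill
end

-- part: H320/Kill/CoTwo
section
/-!
# `Co2` (helper320)

`PSU_6(2) ≤ Co2`, and `3 × SU_4(2) ≤ PSU_6(2)`.
-/

set_option autoImplicit false

namespace Cfsg.Agent.H320.Kill

open Cfsg Module Matrix Subgroup
open Cfsg.Agent.GpUn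
open Cfsg.Agent.LieClassical.HermBasic Cfsg.Agent.LieClassical.HermSiegel
open Cfsg.Agent.LieClassical.SUBasic (suDiag mem_center_SU_iff suScalar coe_suScalar)
open Cfsg.Agent.ClassicalGeometry.HermOrtho
open Cfsg.Agent.ClassicalGeometry.PSUAutBasic
open scoped Pointwise

universe u

section

variable {F : Type u} [Field F] [Fintype F]

theorem card_su42 (hF : Fintype.card F = 4) : Nat.card (SU 4 F 2) = 25920 := by
  have h := Cfsg.Agent.S0278.result (F := F) (q := 2) (by rw [hF]; norm_num) 4 (by norm_num)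
  simp only [Finset.prod_range_succ, Finset.prod_range_zero] at h
  norm_num [Nat.even_iff] at h
  omega

theorem simple_su42 (hF : Fintype.card F = 4) : IsSimpleGroup (SU 4 F 2) := by
  have hF' : Fintype.card F = 2 ^ 2 := by rw [hF]; norm_num
  have h1 := (quasi_SU (F := F) (q := 2) hF' (m := 4) (by norm_num) (by norm_num)).2
  have h2 : center (SU 4 F 2) = ⊥ := by
    rw [eq_bot_iff]
    intro z hz
    rw [mem_bot]
    have h3 : z ^ 3 = 1 := center_pow hF' (by norm_num) hz
    obtain ⟨c, hc4, hc3, rfl⟩ := (mem_center_SU_iff hF' (by norm_num) z).1 hz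
    have hc1 : c = 1 := by
      have : c ^ 4 = c ^ (2 + 1) * c := by ring
      rw [hc4, hc3, one_mul] at this
      exact this.symm
    apply ext_act
    intro v
    rw [act_suScalar, hc1, one_smul, act_one]
  have e : (SU 4 F 2) ≃* (SU 4 F 2) ⧸ center (SU 4 F 2) :=
    QuotientGroup.quotientBot.symm.trans (QuotientGroup.quotientMulEquivOfEq h2.symm)
  exact e.isSimpleGroup

/-- `3 × SU_4(2) ≤ PSU_6(2)` -/
theorem exists_u6 (hF : Fintype.card F = 4) : ∃ (x : PSU 6 F 2) (f : SU 4 F 2 →* PSU 6 F 2), orderOf x = 3 ∧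
    Function.Injective f ∧ ∀ l, f l * x = x * f l := by
  classical
  have h3f : Fact (Nat.Prime 3) := ⟨Nat.prime_three⟩
  have hF' : Fintype.card F = 2 ^ 2 := by rw [hF]; norm_num
  obtain ⟨u, hu⟩ := exists_root hF' (p := 3) (by norm_num)
  set c : F := (u : F) with hc
  have hcp : c ^ 3 = 1 := by
    rw [hc, ← Units.val_pow_eq_pow_val, ← hu, pow_orderOf_eq_one, Units.val_one]
  have hc0 : c ≠ 0 := u.ne_zero
  have hc1 : c ≠ 1 := by
    intro h1
    have h2 : u = 1 := Units.ext h1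
    rw [h2, orderOf_one] at hu
    exact absurd hu (by norm_num)
  let a : Fin 6 → F := ![c, c⁻¹, 1, 1, 1, 1]
  have hd : ∏ i, a i = 1 := by
    rw [Fin.prod_univ_six]
    show c * c⁻¹ * 1 * 1 * 1 * 1 = 1
    rw [mul_inv_cancel₀ hc0]
    ring
  have hap : ∀ i, a i ^ 3 = 1 := by
    intro i
    fin_cases i
    · exact hcp
    · show c⁻¹ ^ 3 = 1
      rw [inv_pow, hcp, inv_one]
    · exact one_pow 3
    · exact one_pow 3
    · exact one_pow 3
    · exact one_pow 3
  set x : SU 6 F 2 := suDiag 2 a hd hap with hx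
  have hact : ∀ v i, act x v i = a i * v i := act_suDiag a hd hap
  set S : Finset (Fin 6) := {2, 3, 4, 5} with hS
  have hU := nd_cU (q := 2) hF' S
  obtain ⟨e⟩ := kgrp_equiv (q := 2) hF' (n := 6) (by norm_num) hU (m := 4) (by rw [finrank_cU]; rfl) (by norm_num)
  have hxp : x ^ 3 = 1 := by
    apply ext_act
    intro v
    funext i
    rw [act_pow_of hact, hap, one_mul, act_one]
  refine ⟨pr 6 F 2 x, (kgrp 2 (cU F S)).subtype.comp e.toMonoidHom, ?_, ?_, ?_⟩
  · refine orderOf_eq_prime (by rw [← map_pow, hxp, map_one]) ?_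
    intro h1
    obtain ⟨d, -, -, hd⟩ := exists_scalar_of_mem_center hF' (by norm_num) (pr_eq_one_iff.1 h1)
    have h2 : ∀ i, a i = d := by
      intro i
      have h3 := congrFun (hd (Pi.single i 1)) i
      rwa [hact, Pi.smul_apply, Pi.single_eq_same, smul_eq_mul, mul_one, mul_one] at h3
    have h3 : a 0 = a 2 := by rw [h2 0, h2 2]
    exact hc1 h3
  · exact (kgrp 2 (cU F S)).subtype_injective.comp e.injective
  · intro l
    obtain ⟨g, hg, hge⟩ := (e l).2
    show (e l).1 * pr 6 F 2 x = pr 6 F 2 x * (e l).1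
    rw [← hge, ← map_mul, ← map_mul]
    congr 1
    refine ext_dec hF' hU (fun u hu => ?_) fun w hw => ?_
    · have hxU : ∀ u ∈ cU F S, act x u = u := by
        intro u hu
        funext i
        rw [hact]
        by_cases hi : i ∈ S
        · have : a i = 1 := by
            rw [hS] at hi
            fin_cases i <;> first | rfl | exact absurd hi (by decide)
          rw [this, one_mul]
        · rw [hu i hi, mul_zero]
      have h1 := act_mem_of_fixG hF' hU hg hu
      rw [act_mul, act_mul, hxU u hu, hxU _ h1]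
    · have h1 : act x w ∈ hermPerp 2 (cU F S : Set (Fin 6 → F)) := by
        rw [perp_cU hF'] at hw ⊢
        intro i hi
        rw [hact, hw i hi, mul_zero]
      rw [act_mul, act_mul, hg w hw, hg _ h1]

end

/-! ### The vector `(-4, 4, 0, ...)` -/

/-- `-4` at the extra point and `4` at the residue `1` -/
def vecW : GolayPt → ℤ := fun p => if p = none then -4 else if p = some 1 then 4 else 0

theorem vecW_mem : vecW ∈ leechSet :=
  Spor.mem_leechSet_of_const_mod_four vecW 0 0 (by decide) (by decide) (by decide)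

/-- the lattice vector -/
def leechW : leechLattice := ⟨vecW, AddSubgroup.subset_closure vecW_mem⟩

theorem exists_hom {F : Type} [Field F] [Fintype F] (hF : Fintype.card F = 4) :
    ∃ f : PSU 6 F 2 →* Spor.Co2, Function.Injective f := by
  have h1 : sqNorm ((Spor.leechU : leechLattice) : GolayPt → ℤ) = 32 := by
    show sqNorm Spor.vecU = 32
    decide
  have h2 : sqNorm ((leechW : leechLattice) : GolayPt → ℤ) = 32 := by
    show sqNorm vecW = 32
    decide
  have h3 : dotInt ((Spor.leechU : leechLattice) : GolayPt → ℤ) ((leechW : leechLattice) : GolayPt → ℤ) = -16 := by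
    show dotInt Spor.vecU vecW = -16
    decide
  obtain ⟨e⟩ := Cfsg.Agent.S1577.result Spor.leechU leechW h1 h2 h3 F hF
  let g : ↥(MulAction.stabilizer ↥Co0 Spor.leechU ⊓ MulAction.stabilizer ↥Co0 leechW) →* Spor.Co2 :=
    { toFun := fun t => ⟨t.1.1, t.1.2, t.2.1⟩
      map_one' := rfl
      map_mul' := fun _ _ => rfl }
  refine ⟨g.comp e.symm.toMonoidHom, ?_⟩
  have hg : Function.Injective g := by
    intro s t hst
    apply Subtype.ext
    apply Subtype.ext
    exact congrArg (fun z : Spor.Co2 => z.1) hst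
  exact hg.comp e.symm.injective

theorem co2 {G : Type u} [Group G] (h : Spor.IsoCo2 G) : ¬ Good G := by
  intro hG
  obtain ⟨e⟩ := h
  have hC : Good Spor.Co2 := hG.congr e
  have hcard : Nat.card Spor.Co2 = 42305421312000 := EvenType.CTwoCard.co2 ⟨MulEquiv.refl _⟩
  obtain ⟨F, _, _, hF⟩ : ∃ (F : Type) (_ : Field F) (_ : Fintype F), Fintype.card F = 4 := by
    have h2 : Fact (Nat.Prime 2) := ⟨Nat.prime_two⟩
    let _ : Fintype (GaloisField 2 2) := Fintype.ofFinite _
    refine ⟨GaloisField 2 2, inferInstance, inferInstance, ?_⟩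
    rw [← Nat.card_eq_fintype_card, GaloisField.card 2 2 (by norm_num)]
    norm_num
  obtain ⟨f, hf⟩ := exists_hom hF
  obtain ⟨x, j, hx, hj, hjx⟩ := exists_u6 hF
  have hsu := card_su42 hF
  obtain ⟨i, h1, -, h3⟩ := hC.hom_data (x := f x) (by rw [orderOf_injective f hf, hx]) (f.comp j) (hf.comp hj)
    (fun l => by
      show f (j l) * f x = f x * f (j l)
      rw [← map_mul, hjx, map_mul]) (simple_su42 hF)
    (not_comm_of_card (simple_su42 hF) (by rw [hsu]; norm_num)) (by rw [hsu]; norm_num)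
  obtain ⟨k, hk1, hki, hk5⟩ := h3 5 (by norm_num) (by norm_num) (by rw [hsu]; norm_num)
  rw [hsu, hcard] at h1
  have hi : i ≤ 2 := by
    by_contra hcon
    push Not at hcon
    have h5 : 3 ^ 3 * 25920 ∣ 42305421312000 := (Nat.mul_dvd_mul_right (pow_dvd_pow 3 hcon) 25920).trans h1
    norm_num at h5
  have : k = 1 := by omega
  subst this
  norm_num at hk5

end Cfsg.Agent.H320.Kill
end
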