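import Mathlib
import Cfsg.Agent.H320.Kill.RankTwo
import Cfsg.Agent.Lib.KleinGen
import Cfsg.Agent.Characters.CNBasic
import Cfsg.Agent.CpAutTh.Final
import Cfsg.Agent.SigTab.Table
import Cfsg.Agent.BiChar.TwDFour
import Cfsg.Agent.S1067
import Cfsg.Agent.H320.Kill.TwFFour
import Cfsg.Agent.OddHalf.SpTwo.EndCOP_m3
import Cfsg.Agent.SigTab.RestList_m3
import Cfsg.Agent.CTwoTab.He
import Cfsg.Agent.CTwoTab.Suz
import Cfsg.Agent.H393.Iso.J23
import Cfsg.Agent.CTwoTab.Ru
import Cfsg.Agent.CTwoTab.Co1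
import Cfsg.Agent.AschComp.AllRows
import Cfsg.Agent.EvenType.CTwoCard
import Cfsg.Agent.J4.Pres
import Cfsg.Agent.KFacts.MulSpor.NoDbl
import Cfsg.Agent.S0365
import Cfsg.Agent.CpAutJThree.Row
import Cfsg.Agent.GpSp.Row
import Cfsg.Agent.S0245
import Cfsg.Agent.S0247
import Cfsg.Agent.TwoESix.LeviHyp_m3
import Cfsg.Agent.H898.TE6Facts
import Cfsg.Agent.S1066
import Cfsg.Agent.H516.RIM.Cent
import Cfsg.Agent.ChevStructure.FieldMap
import Cfsg.Agent.S1062
import Cfsg.Agent.Mrg.Omega.TwoF.Tits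
import Cfsg.Agent.OddRank.SzTits
import Cfsg.Agent.Sigma.Frame
import Cfsg.Agent.S0822
import Cfsg.Agent.H320.Kill.CoTwo
import Cfsg.Agent.H320.Kill.Pair
import Cfsg.Agent.FastGrp
import Cfsg.Agent.Prune
set_option linter.all false

section
prune_inst 0x7ffcfef9a9b83ddeffff7e7ff6fdcffdf9fcffffefdffbfbffecf1efafdf6b0efbe5fbaf7fe850ff0ec2e03430f87b53fbfffeffe36bdc7ffffd5ff45ffbff9fffffbd2851f7983e1ffc6fff9bf07fce7f3fffffffffffffffffffffffffffbeffbfffffffff

-- part: H320/Kill/Thompson_mg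
section
prune_inst 0x204822100000000000000000000000000000000000000001000008000000000000002000001000000000000040000000000000000000000000000000000000000000000000000000000000000000000000000000000000000000000000000000000
set_option linter.all false
open scoped Cfsg.Agent.FastGrp

-- part: H320/Kill/Thompson
section
/-!
The Thompson group: the centralizer of an element `x` of order 3 of type `(3, 3)` in `C(a)/O₂(C(a)) ≅ A₉` is not
3-constrained.
-/

set_option autoImplicit false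
set_option linter.unusedSectionVars false

namespace Cfsg.Agent.H320.Kill.Thompson

open Subgroup Cfsg
open scoped Pointwise
open Cfsg.Agent.Th.Base Cfsg.Agent.Th.Word Cfsg.Agent.Th.RelWords Cfsg.Agent.Th.PermTab
  Cfsg.Agent.Th.KOracle Cfsg.Agent.Th.KPerm Cfsg.Agent.Th.NineAct Cfsg.Agent.Th.CStruct
open Cfsg.Agent.KFacts.Th.Mask Cfsg.Agent.KFacts.Th.Struct
open Cfsg.Agent.CpAutTh.Data Cfsg.Agent.CpAutTh.RankOne Cfsg.Agent.CpAutTh.Local
  Cfsg.Agent.CpAutTh.Mid Cfsg.Agent.CpAutTh.SevenAux Cfsg.Agent.CpAutTh.Seven Cfsg.Agent.CpAutTh.ThreePerm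
  Cfsg.Agent.CpAutTh.ThreeE Cfsg.Agent.CpAutTh.Three Cfsg.Agent.CpAutTh.ThreeCard

universe u

/-! ### The abstract argument -/

section

variable {H : Type u} [Group H] [Finite H]

/-- `E` an extraspecial 2-group with centre `⟨s⟩`, normalized by `C(s)`, and a central element `x` of order 3 -/
structure Setup (E : Subgroup H) (s x : H) : Prop where
  ss : s * s = 1
  s1 : s ≠ 1
  sE : s ∈ E
  twoE : IsPGroup 2 E
  comm : ∀ e ∈ E, e * s = s * e
  norm : ∀ y, y * s = s * y → ∀ e ∈ E, y * e * y⁻¹ ∈ E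
  cent : ∀ y, y * s = s * y → (∀ e ∈ E, y * e = e * y) → ∃ i : ℕ, y = x ^ i ∨ y = x ^ i * s
  swap : ∀ t ∈ E, t ≠ 1 → t ≠ s → ∃ a ∈ E, a * t * a⁻¹ = t * s
  gen : ∀ e ∈ E, ∃ r ∈ E, ∃ t ∈ E, r * r = 1 ∧ t * t = 1 ∧ e = r * t
  big : ∃ t ∈ E, t ≠ 1 ∧ t ≠ s
  x3 : orderOf x = 3
  xc : ∀ y, y * x = x * y
  /-- the normal 2-subgroups of `C(s)` are contained in `E` -/
  core : ∀ D : Subgroup H, IsPGroup 2 D → (∀ d ∈ D, d * s = s * d) →
    (∀ y, y * s = s * y → ∀ d ∈ D, y * d * y⁻¹ ∈ D) → D ≤ E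
  /-- an involution commuting with another involution is conjugate to `s` -/
  fuse : ∀ n m : H, n * n = 1 → n ≠ 1 → m * m = 1 → m ≠ 1 → m ≠ n → m * n = n * m → ∃ g : H, g * s * g⁻¹ = n
  /-- the order of `C(s)` -/
  card : ∀ r : ℕ, r.Prime → r ∣ Nat.card ↥(centralizer ({s} : Set H)) → r = 2 ∨ r = 3

variable {E : Subgroup H} {s x : H} (S : Setup E s x)
include S

theorem Setup.exists_e : ∃ e ∈ E, e * e = 1 ∧ e ≠ 1 ∧ e ≠ s := by
  obtain ⟨t, ht, h1, h2⟩ := S.big
  obtain ⟨a, ha, b, hb, haa, hbb, hab⟩ := S.gen t ht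
  by_cases ha1 : a = 1
  · refine ⟨b, hb, hbb, ?_, ?_⟩
    · rintro rfl
      exact h1 (by rw [hab, ha1, one_mul])
    · rintro rfl
      exact h2 (by rw [hab, ha1, one_mul])
  by_cases has : a = s
  · refine ⟨b, hb, hbb, ?_, ?_⟩
    · rintro rfl
      exact h2 (by rw [hab, has, mul_one])
    · rintro rfl
      exact h1 (by rw [hab, has, S.ss])
  · exact ⟨a, ha, haa, ha1, has⟩

theorem Setup.conj_e {e : H} (he : e ∈ E) (hee : e * e = 1) (he1 : e ≠ 1) : ∃ g : H, g * s * g⁻¹ = e := by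
  by_cases hs : e = s
  · exact ⟨1, by rw [hs]; group⟩
  · exact S.fuse e s hee he1 S.ss S.s1 (Ne.symm hs) (S.comm e he).symm

/-- normal `3'`-subgroups have odd order -/
theorem Setup.odd {N : Subgroup H} (hN : N.Normal) (hNc : (Nat.card N).Coprime 3) : Odd (Nat.card N) := by
  have h2 : Fact (Nat.Prime 2) := ⟨Nat.prime_two⟩
  by_contra hodd
  rw [Nat.not_odd_iff_even, even_iff_two_dvd] at hodd
  obtain ⟨e, he, hee, he1, hes⟩ := S.exists_e
  -- a Sylow 2-subgroup containing `E`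
  obtain ⟨P, hP⟩ := S.twoE.exists_le_sylow
  have hPN : (P : Subgroup H) ⊓ N ≠ ⊥ := by
    obtain ⟨n, hn⟩ := exists_prime_orderOf_dvd_card' 2 hodd
    have hn2 : IsPGroup 2 (zpowers (n : H)) := by
      rw [IsPGroup.iff_card]
      exact ⟨1, by rw [pow_one, Nat.card_zpowers, Subgroup.orderOf_coe, hn]⟩
    obtain ⟨Q, hQ⟩ := hn2.exists_le_sylow
    obtain ⟨g, hg⟩ := MulAction.exists_smul_eq H Q P
    intro hbot
    have h3 : g * n * g⁻¹ ∈ (P : Subgroup H) ⊓ N := by
      refine ⟨?_, hN.conj_mem _ n.2 g⟩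
      rw [← hg]
      have : MulAut.conj g • (n : H) ∈ MulAut.conj g • (Q : Subgroup H) :=
        Subgroup.smul_mem_pointwise_smul _ _ _ (hQ (mem_zpowers _))
      exact this
    rw [hbot, mem_bot] at h3
    have h4 : (n : H) = 1 := by
      have : (n : H) = g⁻¹ * (g * n * g⁻¹) * g := by group
      rw [this, h3]; group
    rw [← Subgroup.orderOf_coe, h4, orderOf_one] at hn
    omega
  -- a central involution in `P ∩ N`
  obtain ⟨w, hwPN, hw1, hwP⟩ := Characters.CNBasic.exists_mem_center_of_normal (P : Subgroup H) P.isPGroup'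
    ((P : Subgroup H) ⊓ N) (P.isPGroup'.to_le inf_le_left) hPN (fun t ht d hd =>
      ⟨(P : Subgroup H).mul_mem ((P : Subgroup H).mul_mem ht hd.1) ((P : Subgroup H).inv_mem ht),
        hN.conj_mem _ hd.2 t⟩)
  obtain ⟨n, hnN, hnn, hn1, hnP⟩ : ∃ n ∈ N, n * n = 1 ∧ n ≠ 1 ∧ ∀ t ∈ (P : Subgroup H), t * n = n * t := by
    have h3 : ∃ j, orderOf w = 2 ^ j := by
      obtain ⟨k, hk⟩ := P.isPGroup' ⟨w, hwPN.1⟩
      have hk' : w ^ 2 ^ k = 1 := congrArg Subtype.val hk
      obtain ⟨j, -, hj⟩ := (Nat.dvd_prime_pow Nat.prime_two).1 (orderOf_dvd_of_pow_eq_one hk')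
      exact ⟨j, hj⟩
    obtain ⟨j, hj⟩ := h3
    have hj0 : j ≠ 0 := by
      rintro rfl
      rw [pow_zero, orderOf_eq_one_iff] at hj
      exact hw1 hj
    obtain ⟨i, rfl⟩ := Nat.exists_eq_succ_of_ne_zero hj0
    have h4 : orderOf (w ^ 2 ^ i) = 2 := by
      rw [orderOf_pow' _ (by positivity), hj, Nat.gcd_eq_right (pow_dvd_pow 2 (Nat.le_succ i)), Nat.succ_eq_add_one,
        pow_succ, Nat.mul_div_cancel_left _ (by positivity)]
    refine ⟨w ^ 2 ^ i, pow_mem hwPN.2 _, ?_, ?_, ?_⟩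
    · have h5 := pow_orderOf_eq_one (w ^ 2 ^ i)
      rw [h4, pow_two] at h5
      exact h5
    · intro h5
      rw [h5, orderOf_one] at h4
      omega
    · intro t ht
      exact ((show Commute t w from hwP t ht).pow_right _).eq
  -- `n` is conjugate to `s`, so `s ∈ N`
  have hsN : s ∈ N := by
    have key : ∀ m ∈ E, m * m = 1 → m ≠ 1 → m ≠ n → s ∈ N := by
      intro m hm hmm hm1 hmn
      obtain ⟨g, hg⟩ := S.fuse n m hnn hn1 hmm hm1 hmn (hnP m (hP hm))
      have h3 := hN.conj_mem _ hnN g⁻¹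
      have h4 : g⁻¹ * n * g⁻¹⁻¹ = s := by rw [← hg]; group
      rwa [h4] at h3
    by_cases h3 : s = n
    · rw [h3]; exact hnN
    · exact key s S.sE S.ss S.s1 h3
  have hconjN : ∀ t ∈ E, t * t = 1 → t ∈ N := by
    intro t ht htt
    by_cases ht1 : t = 1
    · rw [ht1]; exact one_mem _
    · obtain ⟨g, hg⟩ := S.conj_e ht htt ht1
      rw [← hg]
      exact hN.conj_mem _ hsN g
  have hEN : E ≤ N := by
    intro t ht
    obtain ⟨a, ha, b, hb, haa, hbb, hab⟩ := S.gen t ht
    rw [hab]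
    exact mul_mem (hconjN a ha haa) (hconjN b hb hbb)
  -- `C_N(s) ≤ E`
  have hD : N ⊓ centralizer ({s} : Set H) ≤ E := by
    refine S.core _ ?_ (fun d hd => mem_centralizer_singleton_iff.mp hd.2) ?_
    · have h3 : Nat.card (N ⊓ centralizer ({s} : Set H) : Subgroup H) ∣ Nat.card ↥(centralizer ({s} : Set H)) :=
        Subgroup.card_dvd_of_le inf_le_right
      have h4 : Nat.card (N ⊓ centralizer ({s} : Set H) : Subgroup H) ∣ Nat.card N :=
        Subgroup.card_dvd_of_le inf_le_left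
      rw [IsPGroup.iff_card]
      refine ⟨_, Nat.eq_prime_pow_of_unique_prime_dvd Nat.card_pos.ne' ?_⟩
      intro r hr hrd
      rcases S.card r hr (hrd.trans h3) with h5 | h5
      · exact h5
      · exfalso
        rw [h5] at hrd
        exact (Nat.Prime.coprime_iff_not_dvd Nat.prime_three).mp hNc.symm (hrd.trans h4)
    · intro y hy d hd
      refine ⟨hN.conj_mem _ hd.1 y, mem_centralizer_singleton_iff.mpr ?_⟩
      have h3 : Commute y s := hy
      have h4 : Commute d s := mem_centralizer_singleton_iff.mp hd.2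
      exact ((h3.mul_left h4).mul_left h3.inv_left).eq
  obtain ⟨g, hg⟩ := S.conj_e he hee he1
  have hge : g⁻¹ * e * g = s := by rw [← hg]; group
  have hcse : e * s = s * e := S.comm e he
  -- `s' = g⁻¹ s g`
  have hs'E : g⁻¹ * s * g ∈ E := by
    apply hD
    refine ⟨?_, mem_centralizer_singleton_iff.mpr ?_⟩
    · have := hN.conj_mem _ hsN g⁻¹
      rwa [inv_inv] at this
    · calc g⁻¹ * s * g * s = g⁻¹ * s * g * (g⁻¹ * e * g) := by rw [hge]
        _ = g⁻¹ * (s * e) * g := by group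
        _ = g⁻¹ * (e * s) * g := by rw [hcse]
        _ = g⁻¹ * e * g * (g⁻¹ * s * g) := by group
        _ = s * (g⁻¹ * s * g) := by rw [hge]
  obtain ⟨b', hb'E, hb'⟩ := S.swap _ hs'E (by
    intro h3
    apply S.s1
    have : s = g * (g⁻¹ * s * g) * g⁻¹ := by group
    rw [this, h3]; group) (by
    intro h3
    apply hes
    have : e = g * (g⁻¹ * e * g) * g⁻¹ := by group
    rw [this, hge]
    nth_rewrite 1 [← h3]
    group)
  set! b := g * b' * g⁻¹ with hb
  have hbN : b ∈ N := hN.conj_mem _ (hEN hb'E) g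
  have hbs : b * s * b⁻¹ = s * e := by
    calc b * s * b⁻¹ = g * (b' * (g⁻¹ * s * g) * b'⁻¹) * g⁻¹ := by rw [hb]; group
      _ = g * (g⁻¹ * s * g * s) * g⁻¹ := by rw [hb']
      _ = s * (g * s * g⁻¹) := by group
      _ = s * e := by rw [hg]
  have hbe : b * e * b⁻¹ = e := by
    have h3 : b' * s * b'⁻¹ = s := by rw [S.comm b' hb'E]; group
    calc b * e * b⁻¹ = g * (b' * (g⁻¹ * e * g) * b'⁻¹) * g⁻¹ := by rw [hb]; group
      _ = g * (b' * s * b'⁻¹) * g⁻¹ := by rw [hge]
      _ = e := by rw [h3, hg]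
  obtain ⟨a, haE, ha⟩ := S.swap e he he1 hes
  have has : a * s * a⁻¹ = s := by rw [S.comm a haE]; group
  set! c := a * b with hc
  have hcN : c ∈ N := mul_mem (hEN haE) hbN
  have hcs : c * s * c⁻¹ = e := by
    calc c * s * c⁻¹ = a * (b * s * b⁻¹) * a⁻¹ := by rw [hc]; group
      _ = a * (s * e) * a⁻¹ := by rw [hbs]
      _ = (a * s * a⁻¹) * (a * e * a⁻¹) := by group
      _ = s * (e * s) := by rw [has, ha]
      _ = s * (s * e) := by rw [hcse]
      _ = e := by rw [← mul_assoc, S.ss, one_mul]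
  have hce : c * e * c⁻¹ = e * s := by
    calc c * e * c⁻¹ = a * (b * e * b⁻¹) * a⁻¹ := by rw [hc]; group
      _ = e * s := by rw [hbe, ha]
  have hc3 : c ^ 3 * s * (c ^ 3)⁻¹ = s := by
    calc c ^ 3 * s * (c ^ 3)⁻¹ = c * (c * (c * s * c⁻¹) * c⁻¹) * c⁻¹ := by rw [pow_succ, pow_two]; group
      _ = c * (e * s) * c⁻¹ := by rw [hcs, hce]
      _ = (c * e * c⁻¹) * (c * s * c⁻¹) := by group
      _ = e * s * e := by rw [hce, hcs]
      _ = s := by rw [hcse, mul_assoc, hee, mul_one]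
  have hcomm3 : Commute (c ^ 3) s := mul_inv_eq_iff_eq_mul.mp hc3
  have h3 : 3 ∣ orderOf c := by
    by_contra h4
    have h5 : orderOf c % 3 = 1 ∨ orderOf c % 3 = 2 := by omega
    have h6 : c ^ (orderOf c % 3) * s * (c ^ (orderOf c % 3))⁻¹ = s := by
      have h7 : c ^ (orderOf c % 3) = ((c ^ 3) ^ (orderOf c / 3))⁻¹ := by
        rw [eq_inv_iff_mul_eq_one, ← pow_mul, ← pow_add, Nat.mod_add_div, pow_orderOf_eq_one]
      rw [h7]
      have h8 : Commute ((c ^ 3) ^ (orderOf c / 3))⁻¹ s := (hcomm3.pow_left _).inv_left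
      rw [h8.eq]; group
    rcases h5 with h5 | h5
    · rw [h5, pow_one, hcs] at h6
      exact hes h6
    · rw [h5] at h6
      have h7 : c ^ 2 * s * (c ^ 2)⁻¹ = e * s := by
        calc c ^ 2 * s * (c ^ 2)⁻¹ = c * (c * s * c⁻¹) * c⁻¹ := by rw [pow_two]; group
          _ = e * s := by rw [hcs, hce]
      rw [h7] at h6
      exact he1 (mul_eq_right.mp h6)
  have h4 : orderOf c ∣ Nat.card N := by
    have := Subgroup.orderOf_dvd_natCard N hcN
    exact this
  exact (Nat.Prime.coprime_iff_not_dvd Nat.prime_three).mp hNc.symm (h3.trans h4)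

/-- the group is not 3-constrained -/
theorem Setup.not_pConstrained : ¬ IsPConstrained 3 H := by
  have hp3 : Fact (Nat.Prime 3) := ⟨Nat.prime_three⟩
  intro hcon
  obtain ⟨e, he, hee, he1, hes⟩ := S.exists_e
  obtain ⟨g, hg⟩ := S.conj_e he hee he1
  have hcse : e * s = s * e := S.comm e he
  obtain ⟨g', hg'⟩ := S.conj_e (mul_mem he S.sE) (by
      calc e * s * (e * s) = e * (s * e) * s := by group
        _ = (e * e) * (s * s) := by rw [← hcse]; group
        _ = 1 := by rw [hee, S.ss, one_mul]) (by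
      intro h
      apply hes
      have h1 : e = s⁻¹ := eq_inv_of_mul_eq_one_left h
      rw [h1, inv_eq_of_mul_eq_one_right S.ss])
  -- generation
  have key : ∀ M Z : Subgroup H, M.Normal → Z.Normal → Odd (Nat.card M) → M ⊓ centralizer ({s} : Set H) ≤ Z →
      M ≤ Z := by
    intro M Z hM hZ hodd h1
    have h2 : ∀ k t : H, k * s * k⁻¹ = t → M ⊓ centralizer ({t} : Set H) ≤ Z := by
      intro k t hk y hy
      have h3 : k⁻¹ * y * k ∈ M ⊓ centralizer ({s} : Set H) := by
        refine ⟨?_, mem_centralizer_singleton_iff.mpr ?_⟩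
        · have := hM.conj_mem _ hy.1 k⁻¹
          rwa [inv_inv] at this
        · have h4 : y * t = t * y := mem_centralizer_singleton_iff.mp hy.2
          rw [← hk] at h4
          calc k⁻¹ * y * k * s = k⁻¹ * (y * (k * s * k⁻¹)) * k := by group
            _ = k⁻¹ * (k * s * k⁻¹ * y) * k := by rw [h4]
            _ = s * (k⁻¹ * y * k) := by group
      have h4 := hZ.conj_mem _ (h1 h3) k
      have h5 : k * (k⁻¹ * y * k) * k⁻¹ = y := by group
      rwa [h5] at h4
    exact Lib.KleinGen.le_of_klein M Z hodd s e S.ss hee hcse.symm (fun y hy => hM.conj_mem _ hy s)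
      (fun y hy => hM.conj_mem _ hy e) h1 (h2 g e hg) (h2 g' (s * e) (by rw [hg', hcse]))
  -- `O_{3'}(H) = 1`
  have hN : pPrimeCore 3 H = ⊥ := by
    have hNn : (pPrimeCore 3 H).Normal := Lib.Cores.pPrimeCore_normal 3
    have hNc : (Nat.card (pPrimeCore 3 H)).Coprime 3 := Lib.Cores.pPrimeCore_coprime 3
    have hodd := S.odd hNn hNc
    rw [eq_bot_iff]
    refine key _ _ hNn inferInstance hodd ?_
    rw [le_bot_iff, ← Subgroup.card_eq_one]
    by_contra h1
    obtain ⟨r, hr, hrd⟩ := Nat.exists_prime_and_dvd h1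
    have h2 : r ∣ Nat.card (pPrimeCore 3 H) := hrd.trans (Subgroup.card_dvd_of_le inf_le_left)
    rcases S.card r hr (hrd.trans (Subgroup.card_dvd_of_le inf_le_right)) with h5 | h5
    · rw [h5] at h2
      exact (Nat.not_even_iff_odd.mpr hodd) (even_iff_two_dvd.mpr h2)
    · rw [h5] at h2
      exact (Nat.Prime.coprime_iff_not_dvd Nat.prime_three).mp hNc.symm h2
  have hC := (PLocal.PConstrained.isPConstrained_iff_of_pPrimeCore_eq_bot hN).mp hcon
  have hQp : IsPGroup 3 (pCore 3 H) := Lib.Cores.pCore_isPGroup 3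
  have hQn : (pCore 3 H).Normal := Lib.Cores.pCore_normal 3
  have hZn : (zpowers x).Normal := by
    constructor
    rintro n ⟨k, rfl⟩ g
    refine ⟨k, ?_⟩
    have h1 : Commute g x := S.xc g
    have := h1.zpow_right k
    show x ^ k = g * x ^ k * g⁻¹
    rw [this.eq]; group
  have hQE : pCore 3 H ⊓ E = ⊥ := by
    obtain ⟨i, hi⟩ := IsPGroup.iff_card.mp hQp
    obtain ⟨j, hj⟩ := IsPGroup.iff_card.mp S.twoE
    have : Disjoint (pCore 3 H) E := by
      apply Subgroup.disjoint_of_coprime_natCard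
      rw [hi, hj]
      exact Nat.Coprime.pow i j (by norm_num)
    exact this.eq_bot
  have hsx : ∀ i : ℕ, x ^ i ≠ s := by
    intro i h1
    have h2 : s ^ 3 = 1 := by
      rw [← h1, ← pow_mul, mul_comm, pow_mul, ← S.x3, pow_orderOf_eq_one, one_pow]
    apply S.s1
    rw [pow_succ, pow_two, S.ss, one_mul] at h2
    exact h2
  have hQ : pCore 3 H ≤ zpowers x := by
    obtain ⟨i, hi⟩ := IsPGroup.iff_card.mp hQp
    refine key _ _ hQn hZn (by rw [hi]; exact Odd.pow (by decide)) ?_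
    rintro y ⟨hyQ, hys⟩
    replace hys : y * s = s * y := mem_centralizer_singleton_iff.mp hys
    replace hyQ : y ∈ pCore 3 H := hyQ
    have h1 : ∀ e ∈ E, y * e = e * y := by
      intro e he
      have h2 : y * e * y⁻¹ * e⁻¹ ∈ pCore 3 H ⊓ E := by
        refine ⟨?_, E.mul_mem (S.norm y hys e he) (E.inv_mem he)⟩
        have h3 := (pCore 3 H).mul_mem hyQ (hQn.conj_mem _ ((pCore 3 H).inv_mem hyQ) e)
        have h4 : y * (e * y⁻¹ * e⁻¹) = y * e * y⁻¹ * e⁻¹ := by group
        rwa [h4] at h3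
      rw [hQE, mem_bot] at h2
      exact mul_inv_eq_iff_eq_mul.mp (mul_inv_eq_one.mp h2)
    obtain ⟨i, h2 | h2⟩ := S.cent y hys h1
    · rw [h2]
      exact pow_mem (mem_zpowers x) _
    · exfalso
      have hxQ : x ∈ pCore 3 H := by
        have : zpowers x ≤ pCore 3 H := Lib.Cores.le_pCore hZn (by
          rw [IsPGroup.iff_card]
          exact ⟨1, by rw [pow_one, Nat.card_zpowers, S.x3]⟩)
        exact this (mem_zpowers x)
      have hsQ : s ∈ pCore 3 H := by
        have h3 : s = (x ^ i)⁻¹ * y := by rw [h2, inv_mul_cancel_left]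
        rw [h3]
        exact mul_mem (_root_.InvMemClass.inv_mem (pow_mem hxQ i)) hyQ
      have h3 : s ∈ pCore 3 H ⊓ E := ⟨hsQ, S.sE⟩
      rw [hQE, mem_bot] at h3
      exact S.s1 h3
  have h1 : s ∈ zpowers x := by
    apply hQ
    apply hC
    rw [mem_centralizer_iff]
    intro y hy
    obtain ⟨k, rfl⟩ := mem_zpowers_iff.mp (hQ hy)
    have h2 : Commute s x := S.xc s
    exact (h2.zpow_right k).eq.symm
  obtain ⟨i, hi⟩ := (mem_powers_iff_mem_zpowers.mpr h1)
  exact hsx i hi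

end

section

variable {G : Type u} [Group G] {γ : ℕ → G} (h : Ctx γ)
  (hone : ∀ u : G, orderOf u = 2 → ∃ g : G, g * u * g⁻¹ = γ 1)

theorem eq_one_of_pow {π : Equiv.Perm (Fin 9)} (h3 : π ^ 3 = 1) {n : ℕ} (h2 : π ^ 2 ^ n = 1) : π = 1 := by
  rw [← orderOf_eq_one_iff]
  have h4 := orderOf_dvd_of_pow_eq_one h3
  have h5 := orderOf_dvd_of_pow_eq_one h2
  exact Nat.Coprime.eq_one_of_dvd (Nat.Coprime.coprime_dvd_left h4 (Nat.Coprime.pow_right n (by norm_num))) h5

include h in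
theorem comm_cases {u t : G} (hu : u ∈ E γ) (ht : t ∈ E γ) : u * t = t * u ∨ u * t * u⁻¹ = t * γ 1 := by
  have key : ∀ x ∈ E γ, x * x = 1 ∨ x * x = γ 1 := fun x hx =>
    Cfsg.Agent.Th.NineExtra.sq_mem h.data (E_le h hx)
  have hc : ∀ x ∈ E γ, x * γ 1 = γ 1 * x := fun x hx => (h.Q_comm (E_le h hx)).symm
  have haa := h.aa
  have hai : (γ 1)⁻¹ = γ 1 := inv_eq_of_mul_eq_one_right haa
  have h1 := key _ (mul_mem hu ht)
  have h2 := key _ hu
  have h3 := key _ ht
  have h4 : t⁻¹ * (u * u)⁻¹ = (u * u)⁻¹ * t⁻¹ := by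
    rcases h2 with h2 | h2
    · rw [h2]; group
    · rw [h2, hai, inv_mul_eq_iff_eq_mul, ← mul_assoc, hc t ht, mul_assoc, mul_inv_cancel, mul_one]
  have h5 : u * t * u⁻¹ * t⁻¹ = (u * t * (u * t)) * (u * u)⁻¹ * (t * t)⁻¹ := by
    calc u * t * u⁻¹ * t⁻¹ = (u * t * (u * t)) * (t⁻¹ * (u * u)⁻¹) * t⁻¹ := by group
      _ = (u * t * (u * t)) * (u * u)⁻¹ * (t * t)⁻¹ := by rw [h4]; group
  have h6 : u * t * u⁻¹ * t⁻¹ = 1 ∨ u * t * u⁻¹ * t⁻¹ = γ 1 := by
    rw [h5]
    rcases h1 with h1 | h1 <;> rcases h2 with h2 | h2 <;> rcases h3 with h3 | h3 <;> rw [h1, h2, h3] <;>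
      simp [hai, haa]
  rcases h6 with h6 | h6
  · left
    exact mul_inv_eq_iff_eq_mul.mp (mul_inv_eq_one.mp h6)
  · right
    rw [mul_inv_eq_iff_eq_mul] at h6
    rw [h6, hc t ht]

include h hone in
theorem setup {f : sub γ isC →* alternatingGroup (Fin 9)} (F : Epi γ f) :
    Setup (EH γ) (s0 h) (Cfsg.Agent.CpAutTh.Three.x0 : HH γ) where
  ss := by
    rw [← pow_two, ← order_s0 h, pow_orderOf_eq_one]
  s1 := by
    intro h1
    have h2 := order_s0 h
    rw [h1, orderOf_one] at h2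
    omega
  sE := mem_EH.2 h.a_mem
  twoE := EH_two h
  comm := fun e he => EH_s0 h he
  norm := fun y hy e he => EH_norm h hy he
  cent := fun y hy hE => cent_EH h F hy hE
  swap := by
    intro t ht ht1 hts
    have htE : (t : G) ∈ E γ := ⟨mem_EH.1 ht, t.2⟩
    by_contra hcon
    have h1 : ∀ z ∈ E γ, (t : G) * z = z * t := by
      intro z hz
      rcases comm_cases h hz htE with h2 | h2
      · exact h2.symm
      · exfalso
        apply hcon
        exact ⟨⟨z, E_le_H hz⟩, mem_EH.2 hz.1, Subtype.ext h2⟩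
    rcases cent_in_E h htE h1 with h2 | h2
    · exact ht1 (Subtype.ext h2)
    · exact hts (Subtype.ext h2)
  gen := by
    intro e he
    obtain ⟨a, ha, b, hb, haa, hbb, hab⟩ := prod_inv h (q := (e : G)) ⟨mem_EH.1 he, e.2⟩
    exact ⟨⟨a, E_le_H ha⟩, mem_EH.2 ha.1, ⟨b, E_le_H hb⟩, mem_EH.2 hb.1, Subtype.ext haa, Subtype.ext hbb,
      Subtype.ext hab⟩
  big := by
    refine ⟨⟨cc γ 0, E_le_H (c_mem_E h (by simp))⟩, mem_EH.2 (c_mem_E h (i := 0) (by simp)).1, ?_, ?_⟩
    · intro h2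
      have h3 : cc γ 0 = 1 := congrArg Subtype.val h2
      have h4 := h.data.com 0 1 (by decide)
      rw [h3, one_mul, mul_one] at h4
      exact h.a1 (mul_eq_right.mp h4.symm)
    · intro h2
      have h3 : cc γ 0 = γ 1 := congrArg Subtype.val h2
      have h4 := h.data.com 0 1 (by decide)
      have h5 := h.data.ac 1
      rw [h3, ← h5] at h4
      exact h.a1 (mul_eq_right.mp h4.symm)
  x3 := by
    have := o33 h F
    rw [Subgroup.orderOf_mk] at this
    unfold Cfsg.Agent.CpAutTh.Three.x0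
    rw [Subgroup.orderOf_mk]
    exact this
  xc := fun y => mem_center_iff.1 x0_center y
  core := by
    intro D hD hDs hDn d hd
    have hds := hDs d hd
    obtain ⟨i, k, e, j, q, hq, hyq, hfy⟩ := exists_form_C h F (comm_a h hds) (comm_x d)
    have he2 : ∀ e : Fin 2, e = 0 ∨ e = 1 := by decide
    rcases he2 e with rfl | rfl
    · obtain ⟨n, hn⟩ := hD ⟨d, hd⟩
      have hn' : d ^ 2 ^ n = 1 := congrArg Subtype.val hn
      have h2 : (⟨(d : G), h.mem_C.2 (comm_a h hds)⟩ : sub γ isC) ^ 2 ^ n = 1 :=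
        Subtype.ext (congrArg (Subtype.val : HH γ → G) hn')
      have hfy' : ((f ⟨(d : G), h.mem_C.2 (comm_a h hds)⟩ : alternatingGroup (Fin 9)) : Equiv.Perm (Fin 9)) =
          sg ^ (i : ℕ) * cg ^ (k : ℕ) * bg ^ (j : ℕ) := by
        rw [hfy]
        simp
      have h3 : ((f ⟨(d : G), h.mem_C.2 (comm_a h hds)⟩ : alternatingGroup (Fin 9)) : Equiv.Perm (Fin 9)) ^ 2 ^ n =
          1 := by
        rw [← Subgroup.coe_pow, ← map_pow, h2, map_one]
        rfl
      have h4 := eq_one_of_pow (by rw [hfy']; exact form_three i k j) h3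
      have h5 : f ⟨(d : G), h.mem_C.2 (comm_a h hds)⟩ = 1 := Subtype.ext h4
      exact mem_EH.2 ((mem_ker F).1 (MonoidHom.mem_ker.2 h5))
    · exfalso
      obtain ⟨c, hc, hfc⟩ := exists_lift_c h F
      have hw : d * c * d⁻¹ * c⁻¹ ∈ D := by
        have h2 := D.mul_mem hd (hDn c hc _ (D.inv_mem hd))
        have h3 : d * (c * d⁻¹ * c⁻¹) = d * c * d⁻¹ * c⁻¹ := by group
        rwa [h3] at h2
      have hws := hDs _ hw
      obtain ⟨n, hn⟩ := hD ⟨_, hw⟩
      have hn' : (d * c * d⁻¹ * c⁻¹) ^ 2 ^ n = 1 := congrArg Subtype.val hn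
      have h2 : (⟨((d * c * d⁻¹ * c⁻¹ : HH γ) : G), h.mem_C.2 (comm_a h hws)⟩ : sub γ isC) ^ 2 ^ n = 1 :=
        Subtype.ext (congrArg (Subtype.val : HH γ → G) hn')
      have h3 : (⟨((d * c * d⁻¹ * c⁻¹ : HH γ) : G), h.mem_C.2 (comm_a h hws)⟩ : sub γ isC) =
          ⟨(d : G), h.mem_C.2 (comm_a h hds)⟩ * ⟨(c : G), h.mem_C.2 (comm_a h hc)⟩ *
            ⟨(d : G), h.mem_C.2 (comm_a h hds)⟩⁻¹ * ⟨(c : G), h.mem_C.2 (comm_a h hc)⟩⁻¹ := rfl
      have hfy' : ((f ⟨(d : G), h.mem_C.2 (comm_a h hds)⟩ : alternatingGroup (Fin 9)) : Equiv.Perm (Fin 9)) =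
          sg ^ (i : ℕ) * cg ^ (k : ℕ) * ug * bg ^ (j : ℕ) := by
        rw [hfy]
        simp
      have hfw : ((f ⟨((d * c * d⁻¹ * c⁻¹ : HH γ) : G), h.mem_C.2 (comm_a h hws)⟩ : alternatingGroup (Fin 9)) :
          Equiv.Perm (Fin 9)) = cg := by
        rw [h3, map_mul, map_mul, map_mul, map_inv, map_inv]
        simp only [Subgroup.coe_mul, Subgroup.coe_inv]
        rw [hfy', hfc]
        exact comm_form i k j
      have h4 : cg ^ 2 ^ n = 1 := by
        rw [← hfw, ← Subgroup.coe_pow, ← map_pow, h2, map_one]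
        rfl
      have h5 := eq_one_of_pow orders.2.1 h4
      have h6 : cg ^ ((1 : Fin 3) : ℕ) = sg ^ ((0 : Fin 3) : ℕ) := by
        rw [h5]
        simp
      exact absurd (cg_sg 1 0 h6) (by decide)
  fuse := by
    intro n m hnn hn1 hmm hm1 hmn hcomm
    have hn2 : orderOf (n : G) = 2 := by
      rw [Subgroup.orderOf_coe]
      exact orderOf_eq_prime (by rw [pow_two]; exact hnn) hn1
    have hm2 : orderOf (m : G) = 2 := by
      rw [Subgroup.orderOf_coe]
      exact orderOf_eq_prime (by rw [pow_two]; exact hmm) hm1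
    have hx : orderOf (ev γ X33) = 3 := by
      have := o33 h F
      rwa [Subgroup.orderOf_mk] at this
    obtain ⟨g, h1, h2⟩ := exists_pair h hone hx hn2 (comm_x n)
      (P := fun z => z = ev γ X3 ∨ z = ev γ X33 ∨ z = ev γ X333) (fun y hy => by
        obtain ⟨c, hc | hc | hc⟩ := exists_rep_three h F hy
        · exact ⟨c, Or.inl (congrArg Subtype.val hc)⟩
        · exact ⟨c, Or.inr (Or.inl (congrArg Subtype.val hc))⟩
        · exact ⟨c, Or.inr (Or.inr (congrArg Subtype.val hc))⟩)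
    have hcomm' : (m : G) * n = n * m := congrArg Subtype.val hcomm
    have hm' : orderOf (g * m * g⁻¹) = 2 := by
      rw [← hm2]
      exact MulEquiv.orderOf_eq (MulAut.conj g) (m : G)
    have hma : g * m * g⁻¹ * γ 1 = γ 1 * (g * m * g⁻¹) := by
      rw [← h1]
      calc g * m * g⁻¹ * (g * n * g⁻¹) = g * (m * n) * g⁻¹ := by group
        _ = g * (n * m) * g⁻¹ := by rw [hcomm']
        _ = g * n * g⁻¹ * (g * m * g⁻¹) := by group
    have hmx : g * m * g⁻¹ * (g * ev γ X33 * g⁻¹) = g * ev γ X33 * g⁻¹ * (g * m * g⁻¹) := by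
      calc g * m * g⁻¹ * (g * ev γ X33 * g⁻¹) = g * (m * ev γ X33) * g⁻¹ := by group
        _ = g * (ev γ X33 * m) * g⁻¹ := by rw [comm_x m]
        _ = g * ev γ X33 * g⁻¹ * (g * m * g⁻¹) := by group
    have key : g * m * g⁻¹ = γ 1 → False := by
      intro h3
      apply hmn
      apply Subtype.ext
      rw [← h1] at h3
      exact mul_left_cancel (mul_right_cancel h3)
    rcases h2 with h2 | h2 | h2
    · rw [h2] at hmx
      exact (key (inv_three h F hm' hma hmx)).elim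
    · have hg : g ∈ centralizer ({ev γ X33} : Set G) := by
        rw [mem_centralizer_singleton_iff]
        exact mul_inv_eq_iff_eq_mul.1 h2
      refine ⟨⟨g⁻¹, _root_.InvMemClass.inv_mem hg⟩, Subtype.ext ?_⟩
      change g⁻¹ * γ 1 * g⁻¹⁻¹ = n
      rw [← h1]
      group
    · rw [h2] at hmx
      exact (key (inv_triple h F hm' hma hmx)).elim
  card := by
    intro r hr hrd
    rw [card_Y h] at hrd
    have h1 : r ∣ 2 ^ 6 * 3 ^ 3 := by norm_num; exact hrd
    rcases (Nat.Prime.dvd_mul hr).1 h1 with h2 | h2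
    · exact Or.inl ((Nat.prime_dvd_prime_iff_eq hr Nat.prime_two).1 (hr.dvd_of_dvd_pow h2))
    · exact Or.inr ((Nat.prime_dvd_prime_iff_eq hr Nat.prime_three).1 (hr.dvd_of_dvd_pow h2))

include h hone in
theorem not_pConstrained : orderOf (ev γ X33) = 3 ∧ ¬ IsPConstrained 3 (HH γ) := by
  have hfin := h.fin
  obtain ⟨f, F⟩ := Cfsg.Agent.CpAutTh.Local.exists_epi h
  refine ⟨?_, (setup h hone F).not_pConstrained⟩
  have := o33 h F
  rwa [Subgroup.orderOf_mk] at this

end

end Cfsg.Agent.H320.Kill.Thompson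

namespace Cfsg.Agent.H320.Kill

/-- **`Th`** -/
theorem th {X : Type*} [Group X] (h : Cfsg.Spor.IsoTh X) : ¬ Good X := by
  obtain ⟨e⟩ := h
  intro hg
  obtain ⟨h1, h2⟩ := Thompson.not_pConstrained Cfsg.Agent.KFacts.Th.Main.ctx Cfsg.Agent.CpAutTh.Main.hone
  exact h2 ((hg.congr e).con _ h1)

end Cfsg.Agent.H320.Kill
end

-- part: H320/Kill/Orth
section
/-!
# The groups `PΩ^±_{2m}(q)`, `q` even, `m ≥ 4` (helper320)
-/

set_option autoImplicit false

namespace Cfsg.Agent.H320.Kill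

open Cfsg
open QuadraticMap hiding proj
open Cfsg.Agent.LieClassical.OrthCore Cfsg.Agent.LieClassical.OrthTrans Cfsg.Agent.GpOm.Ext
open Cfsg.Agent.GpOm.Classify Cfsg.Agent.GpOm.Sel Cfsg.Agent.OddTab Cfsg.Agent.GpOm.Comp Cfsg.Agent.GpOm.Two
open Cfsg.Agent.GpOm.Row (equiv_of_plus equiv_of_minus)
open Cfsg.Agent.LieClassical Cfsg.Agent.CpQuot

universe u v

section

variable {F : Type u} [Field F] [Finite F] [CharP F 2] {V : Type v} [AddCommGroup V] [Module F V]
  [FiniteDimensional F V] {Q : QuadraticForm F V}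

theorem plane_plus (F : Type u) [Field F] {m : ℕ} (hm : 2 ≤ m) : ∃ u w : Fin m ⊕ Fin m → F,
    OrthForms.plusForm m F u = 1 ∧ OrthForms.plusForm m F w = 1 ∧ polar (OrthForms.plusForm m F) u w = 1 := by
  refine ⟨Sum.elim (fun i => if i.val = 0 then 1 else 0) (fun i => if i.val = 0 then 1 else 0),
    Sum.elim (fun i => if i.val ≤ 1 then 1 else 0) (fun i => if i.val = 1 then 1 else 0), ?_, ?_, ?_⟩
  · rw [OrthForms.coe_plusForm, quadFormPlus]
    rw [Finset.sum_eq_single (⟨0, by omega⟩ : Fin m)]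
    · simp
    · intro i _ hi
      have : i.val ≠ 0 := fun h => hi (Fin.ext h)
      simp [this]
    · intro h
      exact absurd (Finset.mem_univ _) h
  · rw [OrthForms.coe_plusForm, quadFormPlus]
    rw [Finset.sum_eq_single (⟨1, by omega⟩ : Fin m)]
    · simp
    · intro i _ hi
      have : i.val ≠ 1 := fun h => hi (Fin.ext h)
      simp [this]
    · intro h
      exact absurd (Finset.mem_univ _) h
  · rw [OrthForms.polar_plusForm]
    rw [Finset.sum_eq_single (⟨0, by omega⟩ : Fin m)]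
    · simp
    · intro i _ hi
      have : i.val ≠ 0 := fun h => hi (Fin.ext h)
      simp [this]
    · intro h
      exact absurd (Finset.mem_univ _) h

theorem plane_minus (F : Type u) [Field F] {m : ℕ} (hm : 1 ≤ m) (a b : F) : ∃ u w : (Fin m ⊕ Fin m) ⊕ Fin 2 → F,
    OrthForms.minusForm m F a b u = 1 ∧ OrthForms.minusForm m F a b w = 1 ∧
      polar (OrthForms.minusForm m F a b) u w = 1 := by
  refine ⟨Sum.elim (Sum.elim (fun i => if i.val = 0 then 1 else 0) (fun i => if i.val = 0 then 1 else 0)) 0,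
    Sum.elim (Sum.elim (fun i => if i.val = 0 then 1 else 0) 0) ![1, 0], ?_, ?_, ?_⟩
  · rw [OrthForms.coe_minusForm, quadFormMinus]
    rw [Finset.sum_eq_single (⟨0, by omega⟩ : Fin m)]
    · simp
    · intro i _ hi
      have : i.val ≠ 0 := fun h => hi (Fin.ext h)
      simp [this]
    · intro h
      exact absurd (Finset.mem_univ _) h
  · rw [OrthForms.coe_minusForm, quadFormMinus]
    rw [Finset.sum_eq_zero]
    · simp
    · intro i _
      simp
  · rw [OrthForms.polar_minusForm]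
    rw [Finset.sum_eq_single (⟨0, by omega⟩ : Fin m)]
    · simp
    · intro i _ hi
      have : i.val ≠ 0 := fun h => hi (Fin.ext h)
      simp [this]
    · intro h
      exact absurd (Finset.mem_univ _) h

/-- a plane with a rotation of order three -/
theorem exists_plane' (hQ : Nondeg Q) (hd : 4 ≤ Module.finrank F V) :
    ∃ v w : V, Q v = 1 ∧ Q w = 1 ∧ polar Q v w = 1 := by
  obtain ⟨m, h | h⟩ := classify Q hQ
  · have hm := h.finrank
    obtain ⟨e, he⟩ := h
    obtain ⟨u, w, h1, h2, h3⟩ := plane_plus F (m := m) (by omega)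
    refine ⟨e u, e w, by rw [he, h1], by rw [he, h2], ?_⟩
    rw [← h3]
    simp only [polar, ← he, map_add]
  · have hm := h.finrank
    obtain ⟨a, b, -, e, he⟩ := h
    obtain ⟨u, w, h1, h2, h3⟩ := plane_minus F (m := m) (by omega) a b
    refine ⟨e u, e w, by rw [he, h1], by rw [he, h2], ?_⟩
    rw [← h3]
    simp only [polar, ← he, map_add]

/-- an element of order three of `E Q` -/
theorem three_dvd_E (hQ : Nondeg Q) (hd : 5 ≤ Module.finrank F V) : 3 ∣ Nat.card ↥(E Q) := by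
  have h3f : Fact (Nat.Prime 3) := ⟨Nat.prime_three⟩
  obtain ⟨v, w, hv, hw, hvw⟩ := exists_plane' hQ (by omega)
  have h := op_plane hv hw hvw
  have hG := OrthFinite.good_of_finite hQ hd
  have hx := mem_E_of_odd hG (rotV_mem_O h) (n := 3) (by decide) (rotV_pow h)
  have h1 : orderOf (⟨rotV h, hx⟩ : ↥(E Q)) = 3 :=
    orderOf_eq_prime (Subtype.ext (rotV_pow h)) (fun h1 => rotV_ne_one h (congrArg Subtype.val h1))
  rw [← h1]
  exact orderOf_dvd_natCard _

theorem not_good_E (hQ : Nondeg Q) (hd : 7 ≤ Module.finrank F V) {G : Type u} [Group G] (e : G ≃* ↥(E Q)) :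
    ¬ Kill.Good G := by
  obtain ⟨v, w, hv, hw, hvw⟩ := exists_plane' hQ (by omega)
  have h3f : Fact (Nat.Prime 3) := ⟨Nat.prime_three⟩
  have h := op_plane hv hw hvw
  have hxO := rotV_mem_O h
  have hx3 := rotV_pow h
  have hx1 := rotV_ne_one h
  have hfin := finrank_Fix_rotV hQ h
  have hop := fixOP hxO (n := 3) (by decide) hx3
  have hW := hop.nondeg hQ
  have hG := OrthFinite.good_of_finite hW (by omega)
  have hGV := OrthFinite.good_of_finite hQ (by omega : 5 ≤ Module.finrank F V)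
  have hx : rotV h ∈ E Q := mem_E_of_odd hGV hxO (n := 3) (by decide) hx3
  have hi : Function.Injective (e.symm.toMonoidHom.comp (extE hop)) := e.symm.injective.comp (extE_injective hop)
  let eK := rangeEquiv hi
  have hcomp := (cover hop hQ e hx (by
    intro v
    exact ⟨fun hv => ⟨⟨v, hv⟩, rfl⟩, by rintro ⟨w, rfl⟩; exact w.2⟩)).isComponentOf
    ((Congr.isQuasisimple_iff eK).1 (isQuasisimple_E hG))
  refine not_good_of_comp (x := e.symm ⟨rotV h, hx⟩) ?_ hcomp ?_
  · rw [MulEquiv.orderOf_eq]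
    exact orderOf_eq_prime (Subtype.ext hx3) (fun h1 => hx1 (congrArg Subtype.val h1))
  · rw [← Nat.card_congr eK.toEquiv]
    exact three_dvd_E hW (by omega)

end

section

variable {F : Type} [Field F] [Fintype F] [CharP F 2] {m : ℕ} {G : Type u} [Group G]

theorem not_good_plus (hm : 4 ≤ m) (e : G ≃* POmega F (quadFormPlus m F)) : ¬ Kill.Good G := by
  intro hG
  obtain ⟨f⟩ := equiv_of_plus (Q := OrthForms.plusForm m F) (by omega : 3 ≤ m) ⟨LinearEquiv.refl _ _, fun u => rfl⟩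
  have hQ := OrthForms.nondeg_plusForm m F
  have hfin : Module.finrank F (Fin m ⊕ Fin m → F) = 2 * m := by
    rw [Module.finrank_fintype_fun_eq_card, Fintype.card_sum, Fintype.card_fin]
    ring
  exact not_good_E hQ (by omega) (MulEquiv.refl _) (hG.congr (e.trans f.symm))

theorem not_good_minus {a b : F} (hab : Aniso a b) (hm : 4 ≤ m)
    (e : G ≃* POmega F (quadFormMinus (m - 1) F a b)) : ¬ Kill.Good G := by
  intro hG
  obtain ⟨f⟩ := equiv_of_minus (Q := OrthForms.minusForm (m - 1) F a b) (by omega : 2 ≤ m - 1) hab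
    (e := LinearEquiv.refl _ _) (fun u => rfl)
  have hQ := OrthForms.nondeg_minusForm (m - 1) F a b hab
  have hfin : Module.finrank F ((Fin (m - 1) ⊕ Fin (m - 1)) ⊕ Fin 2 → F) = 2 * m := by
    rw [Module.finrank_fintype_fun_eq_card, Fintype.card_sum, Fintype.card_sum, Fintype.card_fin, Fintype.card_fin]
    omega
  exact not_good_E hQ (by omega) (MulEquiv.refl _) (hG.congr (e.trans f.symm))

end

end Cfsg.Agent.H320.Kill
end

-- part: H320/Kill/TwDFour
section
/-!
# `³D_4(q)`, `q` even (helper320)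
-/

set_option autoImplicit false

namespace Cfsg.Agent.H320.Kill

open Subgroup Cfsg Cfsg.Lie Matrix
open Cfsg.Agent.ChevalleyStructure Cfsg.Agent.ChevalleyStructure.SL2Rep Cfsg.Agent.ChevalleyStructure.SL2Hom
open Cfsg.Agent.Nodes.RGDFoldSL Cfsg.Agent.Nodes.BNOf Cfsg.Agent.Nodes.RGDTwGen Cfsg.Agent.Nodes.RGDFold
open Cfsg.Agent.Nodes.RGDTwD4
open Cfsg.Agent.BiChar.TwDFour (Ph range_Ph mem_Fx_three)
open Cfsg.Agent.Tits.Roots (sr)
open Cfsg.Agent.ChevalleyStructure.Elts (xG)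
open Cfsg.Agent.ChevalleyStructure.TwistedU (rspan rspan_le)

universe u

/-- the root groups `k` and `s` commute -/
def Cm (k s : ℕ) : Prop := k < chevD4.nroots ∧ s < chevD4.nroots ∧ s ≠ k ∧ s ≠ chevD4.neg k ∧ chevD4.commTerms k s = []

instance (k s : ℕ) : Decidable (Cm k s) := by unfold Cm; infer_instance

/-- elements of the root groups `k ∈ o` commute with the root group `s` -/
theorem comm_rspan {K : Type} [Field K] {o : List ℕ} {s : ℕ} (ho : ∀ k ∈ o, Cm k s) {g y : GL chevD4.Idx K}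
    (hg : g ∈ rspan (xG (F := K) hp.inList) {k | k ∈ o}) (hy : y ∈ chevD4.rootSubgroup K s) : g * y = y * g := by
  obtain ⟨t, rfl⟩ := (Elts.mem_rootSubgroup_iff hp.inList _ _).1 hy
  have h1 : rspan (xG (F := K) hp.inList) {k | k ∈ o} ≤ centralizer {xG hp.inList s t} := by
    refine rspan_le _ ?_
    intro r hr u
    obtain ⟨h1, h2, h3, h4, h5⟩ := ho r hr
    exact mem_centralizer_singleton_iff.mpr (commute_of_nil hp h1 h2 h3 h4 h5 u t).eq
  exact mem_centralizer_singleton_iff.mp (h1 hg)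

theorem arith {q k i : ℕ} (hk : 1 ≤ k) (hqk : q = 2 ^ k) (hi : 3 ^ i * (2 ^ (3 * k) * ((2 ^ (3 * k)) ^ 2 - 1)) ∣
    q ^ 12 * (q ^ 2 - 1) * (q ^ 6 - 1) * (q ^ 8 + q ^ 4 + 1)) (h : 3 * k + 1 ≤ i) : False := by
  obtain ⟨a, ha⟩ : ∃ a, q ^ 2 = a + 1 := ⟨q ^ 2 - 1, by
    have : 0 < q ^ 2 := by rw [hqk]; positivity
    omega⟩
  have ha3 : a % 3 = 0 := by
    have h1 : q ^ 2 = 4 ^ k := by
      rw [hqk, ← pow_mul, show (4 : ℕ) = 2 ^ 2 by norm_num, ← pow_mul, mul_comm]
    have h2 : (4 ^ k) % 3 = 1 := by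
      rw [Nat.pow_mod]
      norm_num
    omega
  have ha0 : 0 < a := by
    have : 1 < q ^ 2 := Nat.one_lt_pow (by norm_num) (by rw [hqk]; exact Nat.one_lt_pow (by omega) (by norm_num))
    omega
  have h3 : (2 ^ (3 * k)) = q ^ 3 := by
    rw [hqk, ← pow_mul]
    congr 1
    ring
  have h6 : q ^ 6 = (a + 1) ^ 3 := by rw [← ha, ← pow_mul]
  have h8 : q ^ 8 = (a + 1) ^ 4 := by rw [← ha, ← pow_mul]
  have h4 : q ^ 4 = (a + 1) ^ 2 := by rw [← ha, ← pow_mul]
  have h12 : q ^ 12 = q ^ 3 * q ^ 9 := by rw [← pow_add]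
  have h6' : (q ^ 3) ^ 2 = (a + 1) ^ 3 := by rw [← pow_mul, h6]
  have e1 : (a + 1) ^ 3 - 1 = a * (a ^ 2 + 3 * a + 3) := by
    have : (a + 1) ^ 3 = a * (a ^ 2 + 3 * a + 3) + 1 := by ring
    omega
  have e2 : (a + 1) - 1 = a := by omega
  rw [h3, h6', h12, h6, h8, h4, ha, e1, e2] at hi
  have hpos : 0 < q ^ 3 * (a * (a ^ 2 + 3 * a + 3)) := by
    have : 0 < q := by rw [hqk]; positivity
    (clear * - ha0 this; positivity)
  have e3 : q ^ 3 * q ^ 9 * a * (a * (a ^ 2 + 3 * a + 3)) * ((a + 1) ^ 4 + (a + 1) ^ 2 + 1) =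
      (q ^ 9 * (a * ((a + 1) ^ 4 + (a + 1) ^ 2 + 1))) * (q ^ 3 * (a * (a ^ 2 + 3 * a + 3))) := by ring
  rw [e3] at hi
  have h5 := dvd_of_coprime hqk (Nat.dvd_of_mul_dvd_mul_right hpos hi)
  have e4 : a * ((a + 1) ^ 4 + (a + 1) ^ 2 + 1) = (a * (a ^ 2 + 3 * a + 3)) * (a * (a + 1) + 1) := by ring
  rw [e4] at h5
  have h7 : Nat.Coprime (3 ^ i) (a * (a + 1) + 1) := by
    apply Nat.Coprime.pow_left
    rw [Nat.Prime.coprime_iff_not_dvd Nat.prime_three]
    intro h9
    have : (a * (a + 1) + 1) % 3 = 1 := by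
      rw [Nat.add_mod, Nat.mul_mod, ha3]
      norm_num
    omega
  have h10 : 3 ^ i ∣ 4 ^ (3 * k) - 1 := by
    have : 4 ^ (3 * k) - 1 = a * (a ^ 2 + 3 * a + 3) := by
      rw [← e1, ← h6', ← h3, show (4 : ℕ) = 2 ^ 2 by norm_num, ← pow_mul, ← pow_mul, mul_comm 2]
    rw [this]
    exact h7.dvd_of_dvd_mul_right h5
  have h11 := three_pow_le (by omega) h10
  have h12 : 3 ^ (3 * k + 1) ≤ 3 ^ i := Nat.pow_le_pow_right (by norm_num) h
  have h13 := nine_mul_lt (m := 3 * k) (by omega)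
  omega

/-- **`³D_4(q)`, `q` even.** -/
theorem tw_d4 {K : Type} [Field K] [Fintype K] {q k : ℕ} (hqk : q = 2 ^ k) (hk : 1 ≤ k) (hK : Fintype.card K = q ^ 3)
    {G : Type u} [Group G] (e : G ≃* twistedD4 K q) : ¬ Good G := by
  intro hG0
  have hG := hG0.congr e
  have hfin := hG.fin
  have h2p : Fact (Nat.Prime 2) := ⟨Nat.prime_two⟩
  have hK2 : Fintype.card K = 2 ^ (3 * k) := by
    rw [hK, hqk, ← pow_mul]
    congr 1
    ring
  have h2 := two_eq_zero_of_card hK2
  have hch : CharP K 2 := CharTwo.of_one_ne_zero_of_two_eq_zero one_ne_zero h2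
  have hq : IsPrimePow q := by
    rw [hqk]
    exact Nat.prime_two.isPrimePow.pow (by omega)
  obtain ⟨φ, hφ⟩ := D4Fixed.exists_frob hq hK
  have hle := D4Fixed.twisted_le_fix hK hφ
  have R := Cfsg.Agent.Nodes.RGDTwD4.rgd (K := K) Cfsg.Agent.BiChar.TwDFour.cs hK hφ 2
  -- the element
  let w : GL chevD4.Idx K := nI hp K (_root_.Cfsg.Agent.Nodes.RGDTwD4.J 0) * nI hp K (_root_.Cfsg.Agent.Nodes.RGDTwD4.J 1)
  have hw : w ∈ twistedD4 K q := by
    refine mul_mem ?_ ?_
    · rw [nI_zero]; exact D4U.na_mem hφ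
    · rw [nI_one]; exact D4U.nb_mem hφ
  have hy1 : xG (F := K) hp.inList 14 1 ∈ twistedD4 K q := by
    have h1 : xG (F := K) hp.inList 14 1 = D4Cols.xU 14 1 := Units.ext rfl
    rw [h1]
    exact D4Fixed.x14_mem (one_pow _)
  have hy2 : xG (F := K) hp.inList 9 1 ∈ twistedD4 K q := by
    have h1 : xG (F := K) hp.inList 9 1 = D4Cols.xU 9 1 := Units.ext rfl
    rw [h1]
    exact D4Fixed.x9_mem (one_pow _)
  have h14 : 14 < chevD4.nroots := by decide
  let Φ := phi (SL2All.good_of_mem chevD4 hp.inList 14 h14) K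
  have hy : Φ (el3 K) = xG (F := K) hp.inList 14 1 * xG (F := K) hp.inList 9 1 := by
    rw [el3_eq h2, map_mul, Cfsg.Agent.ETable.Exc.phi_up hp.inList h14, Cfsg.Agent.ETable.Exc.phi_lo hp.inList h14]
    rfl
  have hy3 : orderOf (Φ (el3 K)) = 3 := by
    rw [orderOf_injective Φ (Cfsg.Agent.GpExc.Rank.phi_injective _ h2), orderOf_el3]
  have hyT : Φ (el3 K) ∈ twistedD4 K q := by
    rw [hy]
    exact mul_mem hy1 hy2
  let x : ↥(twistedD4 K q) := ⟨w * Φ (el3 K) * w⁻¹, mul_mem (mul_mem hw hyT) (inv_mem hw)⟩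
  have hx : orderOf x = 3 := by
    rw [← Subgroup.orderOf_coe, ← hy3]
    exact MulEquiv.orderOf_eq (MulAut.conj w) _
  have hcj : ∀ r s, r < chevD4.nroots → wp chevD4 (_root_.Cfsg.Agent.Nodes.RGDTwD4.J 0) (wp chevD4 (_root_.Cfsg.Agent.Nodes.RGDTwD4.J 1) r) = s → ∀ g ∈ chevD4.rootSubgroup K r,
      w * g * w⁻¹ ∈ chevD4.rootSubgroup K s := by
    intro r s hr hs g hg
    have h1 : nI hp K (_root_.Cfsg.Agent.Nodes.RGDTwD4.J 1) * g * (nI hp K (_root_.Cfsg.Agent.Nodes.RGDTwD4.J 1))⁻¹ ∈ chevD4.rootSubgroup K (wp chevD4 (_root_.Cfsg.Agent.Nodes.RGDTwD4.J 1) r) := by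
      rw [← cj_nI hp K (_root_.Cfsg.Agent.Nodes.RGDTwD4.J 1) hr]
      exact Cfsg.Agent.Nodes.Reps.conj_mem_cj.2 hg
    have h2 : nI hp K (_root_.Cfsg.Agent.Nodes.RGDTwD4.J 0) * (nI hp K (_root_.Cfsg.Agent.Nodes.RGDTwD4.J 1) * g * (nI hp K (_root_.Cfsg.Agent.Nodes.RGDTwD4.J 1))⁻¹) * (nI hp K (_root_.Cfsg.Agent.Nodes.RGDTwD4.J 0))⁻¹ ∈
        chevD4.rootSubgroup K (wp chevD4 (_root_.Cfsg.Agent.Nodes.RGDTwD4.J 0) (wp chevD4 (_root_.Cfsg.Agent.Nodes.RGDTwD4.J 1) r)) := by
      rw [← cj_nI hp K (_root_.Cfsg.Agent.Nodes.RGDTwD4.J 0) (wp_lt hp (_root_.Cfsg.Agent.Nodes.RGDTwD4.J 1) hr)]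
      exact Cfsg.Agent.Nodes.Reps.conj_mem_cj.2 h1
    rw [hs] at h2
    have h3 : w * g * w⁻¹ = nI hp K (_root_.Cfsg.Agent.Nodes.RGDTwD4.J 0) * (nI hp K (_root_.Cfsg.Agent.Nodes.RGDTwD4.J 1) * g * (nI hp K (_root_.Cfsg.Agent.Nodes.RGDTwD4.J 1))⁻¹) * (nI hp K (_root_.Cfsg.Agent.Nodes.RGDTwD4.J 0))⁻¹ := by
      show nI hp K (_root_.Cfsg.Agent.Nodes.RGDTwD4.J 0) * nI hp K (_root_.Cfsg.Agent.Nodes.RGDTwD4.J 1) * g * (nI hp K (_root_.Cfsg.Agent.Nodes.RGDTwD4.J 0) * nI hp K (_root_.Cfsg.Agent.Nodes.RGDTwD4.J 1))⁻¹ = _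
      group
    rw [h3]
    exact h2
  have hxe : (x : GL chevD4.Idx K) = (w * xG (F := K) hp.inList 14 1 * w⁻¹) * (w * xG (F := K) hp.inList 9 1 * w⁻¹) := by
    show w * Φ (el3 K) * w⁻¹ = _
    rw [hy]
    group
  have ha := hcj 14 23 (by decide) (by decide +kernel) _ (Elts.xG_mem_rootSubgroup hp.inList 14 (1 : K))
  have hb := hcj 9 0 (by decide) (by decide +kernel) _ (Elts.xG_mem_rootSubgroup hp.inList 9 (1 : K))
  have hXc : Cfsg.Agent.Nodes.RGDTwD4.X φ q (sr 1) ⊔ Cfsg.Agent.Nodes.RGDTwD4.X φ q (-sr 1) ≤ centralizer {x} := by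
    have key : ∀ (g : ↥(twistedD4 K q)) (o : List ℕ), (∀ k ∈ o, Cm k 23) → (∀ k ∈ o, Cm k 0) →
        (g : GL chevD4.Idx K) ∈ rspan (xG (F := K) hp.inList) {k | k ∈ o} → g ∈ centralizer {x} := by
      intro g o h1 h2 hg
      rw [mem_centralizer_singleton_iff]
      apply Subtype.ext
      show (g : GL chevD4.Idx K) * x = x * g
      rw [hxe]
      exact (Commute.mul_right (comm_rspan h1 hg ha) (comm_rspan h2 hg hb)).eq
    refine sup_le ?_ ?_
    · intro g hg
      have h1 : (g : GL chevD4.Idx K) ∈ Cfsg.Agent.Nodes.RGDFold.R chevD4 hp K _root_.Cfsg.Agent.Nodes.RGDTwD4.J (D4Fixed.sig φ) (sr 1) :=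
        mem_subgroupOf.mp hg
      rw [R_eq cls1 (by decide +kernel)] at h1
      exact key g _ (by decide +kernel) (by decide +kernel) h1.1
    · intro g hg
      have h1 : (g : GL chevD4.Idx K) ∈ Cfsg.Agent.Nodes.RGDFold.R chevD4 hp K _root_.Cfsg.Agent.Nodes.RGDTwD4.J (D4Fixed.sig φ) (-sr 1) :=
        mem_subgroupOf.mp hg
      rw [R_eq cls1' (by decide +kernel)] at h1
      exact key g _ (by decide +kernel) (by decide +kernel) h1.1
  -- the field
  let F := Fx φ ((Cfsg.Agent.Nodes.RGDTwNode.D4.rest 1).length + 1)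
  have hFK : Nat.card F = 2 ^ (3 * k) := by
    have h1 : Nat.card F = Nat.card K := by
      refine Nat.card_congr (Equiv.subtypeUnivEquiv fun t => mem_Fx_three hK hφ t)
    rw [h1, Nat.card_eq_fintype_card, hK2]
  have hF2 : (2 : F) = 0 := by
    apply Subtype.ext
    exact h2
  let f := _root_.Cfsg.Agent.BiChar.TwDFour.Ph hφ hle 1
  have hr := range_Ph hφ hle hK 1
  have hsF : IsSimpleGroup (_root_.Matrix.SpecialLinearGroup (Fin 2) F) := simple_sl hF2 (by
    rw [hFK]
    calc 4 ≤ 2 ^ 3 := by norm_num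
      _ ≤ 2 ^ (3 * k) := Nat.pow_le_pow_right (by norm_num) (by omega))
  have hfi : Function.Injective f := by
    rw [← MonoidHom.ker_eq_bot_iff]
    rcases hsF.eq_bot_or_eq_top_of_normal f.ker inferInstance with h | h
    · exact h
    · exfalso
      have h3 : f.range = ⊥ := by
        rw [eq_bot_iff]
        rintro _ ⟨g, rfl⟩
        exact mem_bot.mpr (MonoidHom.mem_ker.mp (h.ge (mem_top g)))
      have h4 := R.notp 1
      rw [← hr] at h4
      apply h4
      change IsPGroup 2 ↥f.range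
      rw [h3]
      exact IsPGroup.of_bot
  refine not_good_of_sl hFK (by omega) hF2 hx f hfi (fun l => ?_) ?_ hG
  · have h1 : f l ∈ centralizer {x} := by
      apply hXc
      rw [← hr]
      exact ⟨l, rfl⟩
    exact mem_centralizer_singleton_iff.mp h1
  · intro i hi
    let _ : Fintype F := Fintype.ofFinite F
    rw [Cfsg.Agent.CTwoTab.card_SL_two, Cfsg.Agent.S1067.result (K := K) hq hK, ← Nat.card_eq_fintype_card, hFK] at hi
    by_contra hcon
    exact arith hk hqk hi (by omega)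

end Cfsg.Agent.H320.Kill
end
end

-- part: H320/Kill/Table
section
prune_inst 0x1064440000000000000080010020201000010000000001002100000800000100000800309003034128a0a040080000000000c94000000000008200400400000429520002500c00300006001000000000000000000000000000000000000004000000000
set_option linter.all false
open scoped Cfsg.Agent.FastGrp

-- part: H320/Kill/AltTw
section
/-!
`A₁₂`.
-/

set_option autoImplicit false

namespace Cfsg.Agent.H320.Kill

open Subgroup Cfsg Cfsg.Agent.SevenCases Cfsg.Agent.OddHalf.D5.Dbl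

universe u

/-- the 3-cycle `(9 10 11)` -/
def x12 : Equiv.Perm (Fin 12) := Equiv.swap (9 : Fin 12) 10 * Equiv.swap 10 11

theorem x12_mem : x12 ∈ alternatingGroup (Fin 12) := by
  rw [Equiv.Perm.mem_alternatingGroup]
  decide

theorem x12_pow : x12 ^ 3 = 1 := by
  apply Equiv.ext
  decide +kernel

theorem x12_ne : x12 ≠ 1 := by
  intro h
  have h2 := congrArg (fun g : Equiv.Perm (Fin 12) => g 9) h
  revert h2
  decide

theorem x12_fix : ∀ j : Fin 9, x12 (Fin.castLE (by norm_num) j) = Fin.castLE (by norm_num) j := by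
  decide +kernel

theorem x12_mov : ∀ j : Fin 12, 9 ≤ j.val → 9 ≤ (x12 j).val := by
  decide +kernel

theorem a12 {X : Type u} [Group X] (h : Alt (fun n => n = 12) X) : ¬ Good X := by
  obtain ⟨n, rfl, ⟨e⟩⟩ := h
  intro hg
  have hg' := hg.congr e
  let x : alternatingGroup (Fin 12) := ⟨x12, x12_mem⟩
  have hx : orderOf x = 3 := by
    refine orderOf_eq_prime ?_ ?_
    · exact Subtype.ext x12_pow
    · intro h
      exact x12_ne (congrArg Subtype.val h)
  let v : Fin 9 ↪ Fin 12 := ⟨Fin.castLE (by norm_num), Fin.castLE_injective _⟩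
  have hcomm : ∀ l : alternatingGroup (Fin 9), emb v l * x = x * emb v l := by
    intro l
    apply Subtype.ext
    apply Equiv.ext
    intro i
    show (emb v l : Equiv.Perm (Fin 12)) ((x : Equiv.Perm (Fin 12)) i) =
      (x : Equiv.Perm (Fin 12)) ((emb v l : Equiv.Perm (Fin 12)) i)
    by_cases hi : i.val < 9
    · have h1 : i = v ⟨i.val, hi⟩ := rfl
      have h3 : ∀ j : Fin 9, (x : Equiv.Perm (Fin 12)) (v j) = v j := x12_fix
      rw [h1, h3, emb_apply, h3]
    · have h2 : ∀ j : Fin 12, 9 ≤ j.val → j ∉ Set.range v := by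
        rintro j hj ⟨k, rfl⟩
        exact absurd k.isLt (not_lt.mpr hj)
      have h3 : ∀ j : Fin 12, 9 ≤ j.val → 9 ≤ ((x : Equiv.Perm (Fin 12)) j).val := x12_mov
      rw [emb_notMem _ _ (h2 _ (h3 i (not_lt.mp hi))), emb_notMem _ _ (h2 _ (not_lt.mp hi))]
  have hs : IsSimpleGroup (alternatingGroup (Fin 9)) :=
    alternatingGroup.isSimpleGroup (by rw [Nat.card_eq_fintype_card, Fintype.card_fin]; norm_num)
  have h9 : Nat.card (alternatingGroup (Fin 9)) = 181440 := by
    rw [nat_card_alternatingGroup, Nat.card_eq_fintype_card, Fintype.card_fin]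
    norm_num [Nat.factorial]
  have h12 : Nat.card (alternatingGroup (Fin 12)) = 239500800 := by
    rw [nat_card_alternatingGroup, Nat.card_eq_fintype_card, Fintype.card_fin]
    norm_num [Nat.factorial]
  obtain ⟨i, h1, -, h2⟩ := hg'.hom_data hx (emb v) (emb_injective v) hcomm hs (not_comm_of_card hs (by rw [h9]; norm_num)) (by rw [h9]; norm_num)
  obtain ⟨k, hk1, hk2, -⟩ := h2 5 (by norm_num) (by norm_num) (by rw [h9]; norm_num)
  rw [h9, h12] at h1
  have h3 : 3 ^ 2 * 181440 ∣ 239500800 := (Nat.mul_dvd_mul_right (pow_dvd_pow 3 (by omega)) _).trans h1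
  norm_num at h3

end Cfsg.Agent.H320.Kill
end

-- part: H320/Kill/SporTwo
section
/-!
Sporadic groups with a component in the centralizer of an involution, I: `J₂`, `He`, `Suz`, `Ru`, `Co₁`.
-/

set_option autoImplicit false

namespace Cfsg.Agent.H320.Kill

open Subgroup Cfsg Cfsg.Agent.OddTab

universe u v

/-- a quasisimple subgroup of the centralizer of an involution containing all perfect subgroups -/
theorem not_good_of_perf {G : Type u} [Group G] {x : G} (hx : orderOf x = 2) {L : Subgroup G}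
    (hL : IsQuasisimple ↥L) (hle : L ≤ centralizer ({x} : Set G))
    (hp : ∀ P : Subgroup G, P ≤ centralizer ({x} : Set G) → ⁅P, P⁆ = P → P ≤ L) : ¬ Good G := by
  refine not_good_of_two hx (isComponentOf_of_normalized hle hL ?_)
  intro g hg l hl
  have hLL : ⁅L, L⁆ = L := by
    have h1 := Group.isPerfect_def.mp hL.1
    have h2 := congrArg (Subgroup.map L.subtype) h1
    rw [commutator_def, Subgroup.map_commutator, ← MonoidHom.range_eq_map, Subgroup.range_subtype] at h2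
    exact h2
  have h1 : L.map (MulAut.conj g).toMonoidHom ≤ L := by
    refine hp _ ?_ ?_
    · rintro _ ⟨y, hy, rfl⟩
      have := (centralizer ({x} : Set G)).mul_mem ((centralizer ({x} : Set G)).mul_mem hg (hle hy))
        ((centralizer ({x} : Set G)).inv_mem hg)
      exact this
    · rw [← Subgroup.map_commutator, hLL]
  exact h1 ⟨l, hl, rfl⟩

theorem orderOf_two {G : Type*} [Group G] {x : G} (h : x * x = 1) (h1 : x ≠ 1) : orderOf x = 2 :=
  orderOf_eq_prime (by rw [pow_two, h]) h1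

theorem he {X : Type*} [Group X] (h : Cfsg.Spor.IsoHe X) : ¬ Good X := by
  obtain ⟨e⟩ := h
  intro hg
  have hg' : Good Cfsg.Spor.He := hg.congr e
  exact not_good_of_perf (orderOf_two (Cfsg.Agent.KFacts.He.TwoACent.gn_mul_self .a)
    Cfsg.Agent.KFacts.He.TwoACent.a_ne_one)
    Cfsg.Agent.KFacts.He.TwoA.isQuasisimple_L CTwoTab.He.L_le_cent CTwoTab.He.perfect_le_L hg'

theorem suz {X : Type*} [Group X] (h : Cfsg.Spor.IsoSuz X) : ¬ Good X := by
  obtain ⟨e⟩ := h
  intro hg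
  have hg' : Good Cfsg.Spor.Suz := hg.congr e
  exact not_good_of_perf (orderOf_two KFacts.SuzLFour.e0_sq KFacts.SuzLFour.e0_ne) CTwoTab.Suz.quasi_L
    CTwoTab.Suz.L_le_CE CTwoTab.Suz.perfect_le_L hg'

theorem jtwo {X : Type*} [Group X] (h : Cfsg.Spor.IsoJ2 X) : ¬ Good X := by
  intro hg
  have := hg.fin
  obtain ⟨t, u, Q, v, ρ, D⟩ := Cfsg.Agent.KFacts.J2.Facts.exists_dat_of h
  obtain ⟨f, U, V, H0, F⟩ := Cfsg.Agent.J2Type.CentU.main D.F
  obtain ⟨e⟩ := OddHalf.D4.Spor.JTwo.equiv_H0 D F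
  have hs := OddHalf.D4.Spor.JTwo.simple_H0 D F
  refine not_good_of_perf D.F.hu (CTwoTab.isQuasisimple_of_simple (CTwoTab.na_alt le_rfl e)) F.str.le ?_ hg
  · exact fun P hP hperf => CTwoTab.perfect_le_of_sq (fun a ha => F.str.sq_mem a ha) P hP hperf

theorem ru {X : Type*} [Group X] (h : Cfsg.Spor.IsoRu X) : ¬ Good X := by
  intro hg
  have := hg.fin
  obtain ⟨C, hsz, -⟩ := CTwoTab.Ru.exists_core_sz h
  have hs : IsSimpleGroup ↥C.L := CTwoTab.Ru.simple_sz hsz
  exact not_good_of_perf (orderOf_two (C.v_sq 1) (fun h => absurd (C.v_eq_one h) (by decide))) (CTwoTab.isQuasisimple_of_simple (CTwoTab.Ru.na_L C))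
    (CTwoTab.Ru.le_cent C 1) (CTwoTab.Ru.perfect_le_L C (by decide)) hg

theorem co1 {X : Type*} [Group X] (h : Cfsg.Spor.IsoCo1 X) : ¬ Good X := by
  obtain ⟨e⟩ := h
  intro hg
  have hg' : Good Cfsg.Spor.Co1 := hg.congr e
  have S := Cfsg.Agent.KFacts.Co1D4.Main.setup
  refine not_good_of_perf (orderOf_two Cfsg.Agent.KFacts.Co1D4.TwoB.ww Cfsg.Agent.KFacts.Co1D4.TwoB.w_ne)
    CTwoTab.Co1.quasisimple_L ?_ ?_ hg'
  · intro l hl
    exact Subgroup.mem_centralizer_singleton_iff.2 (Cfsg.Agent.KFacts.Co1D4.TwoB.Lw l hl)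
  · intro P hP hPP
    exact S.le_of_perfect hPP fun p hp => Subgroup.mem_centralizer_singleton_iff.1 (hP hp)

end Cfsg.Agent.H320.Kill
end

-- part: H320/Kill/SporComp
section
/-!
Groups with a component in the centralizer of an involution, II: `HS`, `Co₃`, `Fi₂₂`, `Fi₂₃`, `Fi₂₄'`, `HN`, `B`, `M`,
`L₄(3)`, `PΩ₇(3)`, `PΩ₈^±(3)`.
-/

set_option autoImplicit false

namespace Cfsg.Agent.H320.Kill

open Subgroup Cfsg Cfsg.Agent.AschComp Cfsg.Agent.SevenCases

universe u v

theorem not_good_of_rankOne {G : Type u} [Group G] (h : RankOne G) : ¬ Good G := by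
  obtain ⟨z, K, hz, hK, -⟩ := h
  exact not_good_of_two hz hK

theorem hs {X : Type*} [Group X] (h : Cfsg.Spor.IsoHS X) : ¬ Good X := by
  obtain ⟨e⟩ := h
  exact fun hg => not_good_of_rankOne AllRows.spor.hs (hg.congr e)

theorem co3 {X : Type*} [Group X] (h : Cfsg.Spor.IsoCo3 X) : ¬ Good X := by
  obtain ⟨e⟩ := h
  exact fun hg => not_good_of_rankOne AllRows.spor.co3 (hg.congr e)

theorem fi22 {X : Type*} [Group X] (h : Cfsg.Spor.IsoFi22 X) : ¬ Good X := by
  obtain ⟨e⟩ := h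
  exact fun hg => not_good_of_rankOne AllRows.spor.fi22 (hg.congr e)

theorem fi23 {X : Type*} [Group X] (h : Cfsg.Spor.IsoFi23 X) : ¬ Good X := by
  obtain ⟨e⟩ := h
  exact fun hg => not_good_of_rankOne AllRows.spor.fi23 (hg.congr e)

theorem fi24 {X : Type*} [Group X] (h : Cfsg.Spor.IsoFi24' X) : ¬ Good X := by
  obtain ⟨e⟩ := h
  exact fun hg => not_good_of_rankOne AllRows.spor.fi24 (hg.congr e)

theorem hn {X : Type*} [Group X] (h : Cfsg.Spor.IsoHN X) : ¬ Good X := by
  obtain ⟨e⟩ := h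
  exact fun hg => not_good_of_rankOne AllRows.spor.hn (hg.congr e)

theorem babyMonster {X : Type*} [Group X] (h : Cfsg.Spor.IsoB X) : ¬ Good X := by
  obtain ⟨e⟩ := h
  exact fun hg => not_good_of_rankOne AllRows.spor.b (hg.congr e)

theorem monster {X : Type*} [Group X] (h : Cfsg.Spor.IsoM X) : ¬ Good X := by
  obtain ⟨e⟩ := h
  exact fun hg => not_good_of_rankOne AllRows.spor.m (hg.congr e)

theorem l43 {X : Type u} [Group X] (h : PslOdd (fun n q => n = 4 ∧ q = 3) X) : ¬ Good X := by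
  obtain ⟨F, _, _, n, -, ⟨rfl, hF⟩, ⟨e⟩⟩ := h
  exact fun hg => not_good_of_rankOne (AllRows.three.psl3 F 4 hF le_rfl) (hg.congr e)

theorem o73 {X : Type u} [Group X] (h : OmegaOdd (fun m q => m = 3 ∧ q = 3) X) : ¬ Good X := by
  obtain ⟨F, _, _, n, -, ⟨rfl, hF⟩, ⟨e⟩⟩ := h
  exact fun hg => not_good_of_rankOne (AllRows.three.odd3 F 3 hF le_rfl) (hg.congr e)

theorem o8p3 {X : Type u} [Group X] (h : OmegaPlusOdd (fun m q => m = 4 ∧ q = 3) X) : ¬ Good X := by
  obtain ⟨F, _, _, n, -, ⟨rfl, hF⟩, ⟨e⟩⟩ := h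
  exact fun hg => not_good_of_rankOne (AllRows.three.plus3 F 4 hF le_rfl) (hg.congr e)

theorem o8m3 {X : Type u} [Group X] (h : OmegaMinusOdd (fun m q => m = 4 ∧ q = 3) X) : ¬ Good X := by
  obtain ⟨F, _, _, n, a, b, -, ⟨rfl, hF⟩, hab, ⟨e⟩⟩ := h
  exact fun hg => not_good_of_rankOne (AllRows.three.minus3 F 4 a b hF le_rfl hab) (hg.congr e)

end Cfsg.Agent.H320.Kill
end

-- part: H320/Kill/Mathieu
section
/-!
The Mathieu groups, `J₄` and `A₈`.
-/

set_option autoImplicit false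

namespace Cfsg.Agent.H320.Kill

open Subgroup Cfsg Cfsg.Agent.SevenCases Cfsg.Agent.J4.M24Hom Cfsg.Agent.SporadicA.GolayWalk

universe u v

theorem m22 {X : Type*} [Group X] (h : Cfsg.Spor.IsoM22 X) : ¬ Good X :=
  not_good_of_card (by rw [EvenType.CTwoCard.m22 h]; norm_num)

theorem m23 {X : Type*} [Group X] (h : Cfsg.Spor.IsoM23 X) : ¬ Good X :=
  not_good_of_card (by rw [EvenType.CTwoCard.m23 h]; norm_num)

theorem a8 {X : Type u} [Group X] (h : Alt (fun n => n = 8) X) : ¬ Good X := by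
  obtain ⟨n, rfl, ⟨e⟩⟩ := h
  refine not_good_of_card ?_
  rw [Nat.card_congr e.toEquiv, nat_card_alternatingGroup, Nat.card_eq_fintype_card, Fintype.card_fin]
  norm_num [Nat.factorial]

/-- table of `a` -/
def ta : List ℕ := [12, 17, 10, 23, 9, 16, 3, 22, 13, 20, 15, 1, 19, 14, 8, 2, 21, 11, 7, 0, 4, 5, 18, 6]
/-- table of `b` -/
def tb : List ℕ := [12, 16, 23, 18, 11, 21, 2, 3, 14, 4, 15, 9, 19, 8, 13, 22, 17, 1, 7, 0, 5, 20, 10, 6]
/-- table of `z` -/
def tz : List ℕ := [0, 21, 3, 22, 1, 9, 7, 15, 8, 17, 23, 16, 12, 13, 14, 6, 20, 5, 10, 19, 11, 4, 2, 18]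

/-- `a` -/
def pa : Equiv.Perm GolayPt where
  toFun := fn ta
  invFun := fun p => fn ta (fn ta p)
  left_inv := by decide +kernel
  right_inv := by decide +kernel

/-- `b` -/
def pb : Equiv.Perm GolayPt where
  toFun := fn tb
  invFun := fun p => fn tb (fn tb p)
  left_inv := by decide +kernel
  right_inv := by decide +kernel

/-- `z` -/
def pz : Equiv.Perm GolayPt where
  toFun := fn tz
  invFun := fun p => fn tz (fn tz p)
  left_inv := by decide +kernel
  right_inv := by decide +kernel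

theorem pa_mem : pa ∈ M24 := mem_M24_of_table pa ta rfl (by decide +kernel) (by decide +kernel)
theorem pb_mem : pb ∈ M24 := mem_M24_of_table pb tb rfl (by decide +kernel) (by decide +kernel)
theorem pz_mem : pz ∈ M24 := mem_M24_of_table pz tz rfl (by decide +kernel) (by decide +kernel)

theorem heis : ∃ a b z : M24, a ^ 3 = 1 ∧ b ^ 3 = 1 ∧ z ^ 3 = 1 ∧ z ≠ 1 ∧ a * b = z * b * a ∧ a * z = z * a ∧
    b * z = z * b := by
  refine ⟨⟨pa, pa_mem⟩, ⟨pb, pb_mem⟩, ⟨pz, pz_mem⟩, ?_, ?_, ?_, ?_, ?_, ?_, ?_⟩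
  · apply Subtype.ext; apply perm_ext; decide +kernel
  · apply Subtype.ext; apply perm_ext; decide +kernel
  · apply Subtype.ext; apply perm_ext; decide +kernel
  · intro h
    have h1 : pz = 1 := congrArg Subtype.val h
    have h2 := congrArg (fun g : Equiv.Perm GolayPt => g (some 1)) h1
    revert h2
    decide +kernel
  · apply Subtype.ext; apply perm_ext; decide +kernel
  · apply Subtype.ext; apply perm_ext; decide +kernel
  · apply Subtype.ext; apply perm_ext; decide +kernel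

theorem not_good_of_m24 {G : Type u} [Group G] (hc : ¬ 81 ∣ Nat.card G) (f : M24 →* G) (hf : Function.Injective f) :
    ¬ Good G := by
  obtain ⟨a, b, z, ha, hb, hz, hz1, hab, haz, hbz⟩ := heis
  refine not_good_of_heis hc (a := f a) (b := f b) (z := f z) ?_ ?_ ?_ ?_ ?_ ?_ ?_
  · rw [← map_pow, ha, map_one]
  · rw [← map_pow, hb, map_one]
  · rw [← map_pow, hz, map_one]
  · intro h
    exact hz1 (hf (h.trans (map_one f).symm))
  · rw [← map_mul, hab, map_mul, map_mul]
  · rw [← map_mul, haz, map_mul]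
  · rw [← map_mul, hbz, map_mul]

theorem m24 {X : Type*} [Group X] (h : Cfsg.Spor.IsoM24 X) : ¬ Good X := by
  have hc := EvenType.CTwoCard.m24 h
  obtain ⟨e⟩ := h
  exact not_good_of_m24 (by rw [hc]; norm_num) e.symm.toMonoidHom e.symm.injective

theorem phi_injective : Function.Injective Cfsg.Agent.J4.Pres.phi := by
  have hs : IsSimpleGroup M24 := Cfsg.Agent.S0365.result
  have h1 : (Cfsg.Agent.J4.Pres.phi.ker).Normal := inferInstance
  rcases h1.eq_bot_or_eq_top with h2 | h2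
  · exact (MonoidHom.ker_eq_bot_iff _).mp h2
  · exfalso
    have hx : Cfsg.Agent.J4.Rep112.x = 1 := by
      rw [← Cfsg.Agent.J4.Pres.phi_X, ← MonoidHom.mem_ker, h2]
      exact mem_top _
    have hy : Cfsg.Agent.J4.Rep112.y = 1 := by
      rw [← Cfsg.Agent.J4.Pres.phi_Y, ← MonoidHom.mem_ker, h2]
      exact mem_top _
    have h3 : (⊤ : Subgroup Cfsg.Spor.J4) ≤ zpowers Cfsg.Agent.J4.Rep112.t := by
      rw [← Cfsg.Agent.J4.Rep112.closure_eq_top, closure_le]
      rintro g (rfl | rfl | rfl)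
      · rw [hx]; exact one_mem _
      · rw [hy]; exact one_mem _
      · exact mem_zpowers _
    have h4 := Cfsg.Agent.J4.Final.card_J4
    have h5 : Nat.card (zpowers Cfsg.Agent.J4.Rep112.t) = Nat.card Cfsg.Spor.J4 := by
      rw [top_le_iff.mp h3, Subgroup.card_top]
    rw [Nat.card_zpowers, h4] at h5
    have h6 : orderOf Cfsg.Agent.J4.Rep112.t ∣ 2 := orderOf_dvd_of_pow_eq_one (by
      exact Cfsg.Agent.J4.Pres.all_rels.2.2.2.2.2.2.2.1)
    rw [h5] at h6
    exact absurd (Nat.le_of_dvd (by norm_num) h6) (by norm_num)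

theorem j4 {X : Type*} [Group X] (h : Cfsg.Spor.IsoJ4 X) : ¬ Good X := by
  have hc := EvenType.CTwoCard.j4 h
  obtain ⟨e⟩ := h
  exact not_good_of_m24 (by rw [hc]; norm_num) (e.symm.toMonoidHom.comp Cfsg.Agent.J4.Pres.phi)
    (e.symm.injective.comp phi_injective)

end Cfsg.Agent.H320.Kill
end

-- part: H320/Kill/JThree
section
/-!
`J₃`: an element of order 3 with centralizer `3 × A₆`.
-/

set_option autoImplicit false

namespace Cfsg.Agent.H320.Kill

open Subgroup Cfsg Cfsg.Agent.CpAutJThree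

universe u

theorem j3 {K : Type u} [Group K] (h : Cfsg.Spor.IsoJ3 K) : ¬ Good K := by
  intro hg
  obtain ⟨hcard, hM, hone, -⟩ := base h
  have hfin : Finite K := Nat.finite_of_card_ne_zero (by rw [hcard]; norm_num)
  have hp2 : Fact (Nat.Prime 2) := ⟨Nat.prime_two⟩
  have hp3 : Fact (Nat.Prime 3) := ⟨Nat.prime_three⟩
  obtain ⟨x, hx, ⟨s, hs, hsx⟩, hC⟩ := exc h
  have memC : ∀ a : K, a ∈ centralizer ({x} : Set K) ↔ a * x = x * a := fun a => mem_centralizer_singleton_iff
  let c : centralizer ({x} : Set K) := ⟨x, (memC x).2 rfl⟩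
  have hc3 : orderOf c = 3 := by rw [← hx]; exact orderOf_mk _ _
  have hcc : ∀ a : centralizer ({x} : Set K), a * c = c * a := fun a => Subtype.ext ((memC a).1 a.2)
  have hZn : (zpowers c).Normal := by
    constructor
    rintro n ⟨k, rfl⟩ g
    refine ⟨k, ?_⟩
    have h1 : Commute g c := hcc g
    have := h1.zpow_right k
    show c ^ k = g * c ^ k * g⁻¹
    rw [this.eq]; group
  have hHD8 := J3Type.Extra.hd8_quotient c hc3 hcc (hD_of_model hM hx)
  have hq : Nat.card (↥(centralizer ({x} : Set K)) ⧸ zpowers c) = 360 := by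
    have := card_eq_card_quotient_mul_card_subgroup (zpowers c)
    rw [hC, Nat.card_zpowers, hc3] at this
    omega
  obtain ⟨s', hs'⟩ := exists_prime_orderOf_dvd_card' (G := ↥(centralizer ({x} : Set K)) ⧸ zpowers c) 2
    (by rw [hq]; norm_num)
  have hsim := J3Type.Extra.isSimple hHD8 hs'
  refine not_pConstrained_of_central (Z := zpowers c) ?_ ?_ hsim ?_ (by rw [hq]; norm_num) (hg.con x hx)
  · rw [zpowers_le, mem_center_iff]
    exact hcc
  · rw [IsPGroup.iff_card]
    exact ⟨1, by rw [pow_one, Nat.card_zpowers, hc3]⟩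
  · intro hcomm
    have h1 : ∀ a b : ↥(centralizer ({x} : Set K)) ⧸ zpowers c, a * b = b * a := hcomm.is_comm.comm
    let _ : CommGroup (↥(centralizer ({x} : Set K)) ⧸ zpowers c) :=
      { (inferInstance : Group (↥(centralizer ({x} : Set K)) ⧸ zpowers c)) with mul_comm := h1 }
    have h2 := IsSimpleGroup.prime_card (α := ↥(centralizer ({x} : Set K)) ⧸ zpowers c)
    rw [hq] at h2
    norm_num at h2

end Cfsg.Agent.H320.Kill
end

-- part: H320/Kill/Symp
section
/-!
# The groups `PSp_2m(q)`, `q` even (helper320)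
-/

set_option autoImplicit false

namespace Cfsg.Agent.H320.Kill

open Cfsg Subgroup
open Cfsg.Agent.GpSp.Row (toPSp charP_two)
open scoped commutatorElement

universe u

variable {F : Type} [Field F] [Fintype F]

theorem quasisimple_of_simple {K : Type*} [Group K] (hs : IsSimpleGroup K) (hc : ¬ IsMulCommutative K) :
    IsQuasisimple K := by
  have hcen : center K = ⊥ := by
    rcases (inferInstance : (center K).Normal).eq_bot_or_eq_top with h | h
    · exact h
    · exfalso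
      apply hc
      refine ⟨⟨fun a b => ?_⟩⟩
      have h1 : b ∈ center K := by rw [h]; trivial
      exact mem_center_iff.mp h1 a
  refine ⟨?_, ?_⟩
  · rw [Group.isPerfect_def]
    rcases (inferInstance : (commutator K).Normal).eq_bot_or_eq_top with h | h
    · exfalso
      apply hc
      refine ⟨⟨fun a b => ?_⟩⟩
      have h2 : ⁅a, b⁆ ∈ commutator K := Subgroup.commutator_mem_commutator (Subgroup.mem_top a) (Subgroup.mem_top b)
      rw [h, Subgroup.mem_bot, commutatorElement_eq_one_iff_mul_comm] at h2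
      exact h2
    · exact h
  · exact (CpQuot.Congr.isSimple_iff ((QuotientGroup.quotientMulEquivOfEq hcen).trans QuotientGroup.quotientBot)).2 hs

/-- **`PSp_2m(q)`, `q` even.** -/
theorem not_good_psp (hF : Even (Fintype.card F)) {n : ℕ} (hn : 2 ≤ n) (h2 : n = 2 → 3 ≤ Fintype.card F) {G : Type u}
    [Group G] (e : G ≃* PSp n F) : ¬ Good G := by
  intro hG
  have := hG.fin
  have hs : IsSimpleGroup G := (CpQuot.Congr.isSimple_iff e).2 (S0270.result n hn h2)
  have hch := charP_two hF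
  have hnc : ¬ IsMulCommutative G := by
    apply not_comm_of_card hs
    intro hp
    have := hG.card_dvd
    have h1 : 3 ∣ Nat.card G := Dvd.dvd.trans (by norm_num) this
    rw [Nat.prime_dvd_prime_iff_eq Nat.prime_three hp] at h1
    rw [← h1] at this
    norm_num at this
  obtain ⟨y, K, m, hy, hle, hno, hmn, hkn, ⟨i⟩, hr1, hr2⟩ :=
    GpSp.Row.exists_elt Nat.prime_three (by norm_num) (k := 3) (by norm_num) e hG.three
  have hm : 2 ≤ m := by omega
  -- `3` divides the order of `K`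
  have hK3 : 3 ∣ Nat.card K := by
    obtain ⟨A, -, hA3, hAc⟩ := hr2
    have h3f : Fact (Nat.Prime 3) := ⟨Nat.prime_three⟩
    have hp : IsPGroup 3 A := fun a => ⟨1, Subtype.ext (by simpa only [_root_.pow_one, _root_.SubmonoidClass.coe_pow, _root_.OneMemClass.coe_one] using hA3 a a.2)⟩
    obtain ⟨j, hj⟩ := IsPGroup.iff_card.mp hp
    refine Dvd.dvd.trans ?_ (Subgroup.card_subgroup_dvd_card A)
    rw [hj] at hAc ⊢
    apply dvd_pow_self
    rintro rfl
    norm_num at hAc
  by_cases hq : m = 2 ∧ Fintype.card F = 2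
  · -- `Sp_6(2)`
    obtain ⟨rfl, hq⟩ := hq
    have hn3 : n = 3 := by
      have : n ≠ 2 := fun h => by have := h2 h; omega
      omega
    subst hn3
    obtain ⟨i2⟩ := Cfsg.Agent.S0247.result hq
    let i3 : K ≃* Equiv.Perm (Fin 6) := i.trans ((toPSp F 2).symm.trans i2)
    let f : alternatingGroup (Fin 6) →* G :=
      K.subtype.comp (i3.symm.toMonoidHom.comp (alternatingGroup (Fin 6)).subtype)
    have hf : Function.Injective f :=
      K.subtype_injective.comp (i3.symm.injective.comp (alternatingGroup (Fin 6)).subtype_injective)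
    have hA6 : Nat.card (alternatingGroup (Fin 6)) = 360 := by
      rw [Nat.card_eq_fintype_card]
      have h5 := two_mul_card_alternatingGroup (α := Fin 6)
      rw [Fintype.card_perm, Fintype.card_fin] at h5
      have h6 : Nat.factorial 6 = 720 := by decide
      omega
    have hAs : IsSimpleGroup (alternatingGroup (Fin 6)) := alternatingGroup.isSimpleGroup (by simp)
    obtain ⟨j, h1, -, h3⟩ := hG.hom_data hy f hf (fun l => mem_centralizer_singleton_iff.mp (hle (i3.symm l.1).2))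
      hAs (not_comm_of_card hAs (by rw [hA6]; norm_num)) (by rw [hA6]; norm_num)
    obtain ⟨k, hk1, hki, hk5⟩ := h3 5 (by norm_num) (by norm_num) (by rw [hA6]; norm_num)
    have hcard : Nat.card G = 1451520 := by
      rw [Nat.card_congr (e.trans (toPSp F 3).symm).toEquiv]
      have := Cfsg.Agent.S0245.result (F := F) rfl 3
      rw [this, hq]
      decide
    rw [hA6, hcard] at h1
    have hi : j ≤ 2 := by
      by_contra hcon
      push Not at hcon
      have h5 : 3 ^ 3 * 360 ∣ 1451520 := (Nat.mul_dvd_mul_right (pow_dvd_pow 3 hcon) 360).trans h1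
      norm_num at h5
    have : k = 1 := by omega
    subst this
    norm_num at hk5
  · have hF2 := Fintype.one_lt_card (α := F)
    have hKs : IsSimpleGroup K := (CpQuot.Congr.isSimple_iff i).2 (S0270.result m hm (fun h => by omega))
    have hKc : ¬ IsMulCommutative K := by
      apply not_comm_of_card hKs
      intro hp
      obtain ⟨A, hA, hA3, hAc⟩ := hr2
      have h1 := (Nat.prime_dvd_prime_iff_eq Nat.prime_three hp).mp hK3
      have h4 := Nat.le_of_dvd Nat.card_pos (Subgroup.card_subgroup_dvd_card A)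
      norm_num only [] at hAc
      omega
    exact not_good_of_comp hy (OddTab.isComponentOf_of_normalized hle (quasisimple_of_simple hKs hKc) hno) hK3 hG

end Cfsg.Agent.H320.Kill
end

-- part: H320/Kill/Exc
section
/-!
# `E_6(q)`, `E_7(q)`, `E_8(q)`, `q` even, `F_4(q)`, `²E_6(q)`, `q > 2` even (helper320)
-/

set_option autoImplicit false

namespace Cfsg.Agent.H320.Kill

open Subgroup Cfsg Cfsg.Lie Cfsg.Agent.GpExc Cfsg.Agent.GpExc.Chev
open Cfsg.Agent.GpExc.Row (field_even)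

universe u

theorem three_dvd_of_rank {L : Type*} [Group L] [Finite L] {k : ℕ} (hk : 1 ≤ k) (h : PRankAtLeast 3 k L) :
    3 ∣ Nat.card L := by
  obtain ⟨A, -, hA3, hAc⟩ := h
  have h3f : Fact (Nat.Prime 3) := ⟨Nat.prime_three⟩
  have hp : IsPGroup 3 A := fun a => ⟨1, Subtype.ext (by simpa only [_root_.pow_one, _root_.SubmonoidClass.coe_pow, _root_.OneMemClass.coe_one] using hA3 a a.2)⟩
  obtain ⟨j, hj⟩ := IsPGroup.iff_card.mp hp
  refine Dvd.dvd.trans ?_ (Subgroup.card_subgroup_dvd_card A)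
  rw [hj] at hAc ⊢
  apply dvd_pow_self
  rintro rfl
  have : 3 ^ 1 ≤ 3 ^ k := Nat.pow_le_pow_right (by norm_num) hk
  norm_num at hAc this
  omega

theorem not_good_of_out {H : Type u} [Group H] {q N P : ℕ} (h : Out H 3 q N P) : ¬ Good H := by
  intro hG
  have := hG.fin
  obtain ⟨x, hx, -, -, -, -, -, L, h5, h6, h7, h8, -⟩ := h
  refine not_good_of_comp hx (OddTab.isComponentOf_of_normalized (K := L)
    (fun u hu => mem_centralizer_singleton_iff.mpr (h6 u hu)) h5
    (fun g hg u hu => h7 g (mem_centralizer_singleton_iff.mp hg) u hu)) (three_dvd_of_rank (by norm_num) h8) hG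

theorem three_dvd_q {k : ℕ} : 3 ∣ (2 ^ k) ^ 2 - 1 := by
  rw [← pow_mul, mul_comm, pow_mul]
  have h : (2 ^ 2) ^ k % 3 = 1 := by
    rw [Nat.pow_mod]
    norm_num
  omega

variable {G : Type u} [Group G]

theorem e6 {F : Type} [Field F] [Fintype F] (he : Even (Fintype.card F)) (e : G ≃* chevE6.group F) : ¬ Good G := by
  obtain ⟨h2, k, hk, hqk⟩ := field_even he
  exact fun hG => not_good_of_out (out_E6 h2 Nat.prime_three (by norm_num) rfl (by rw [hqk]; exact three_dvd_q))
    (hG.congr e)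

theorem e7 {F : Type} [Field F] [Fintype F] (he : Even (Fintype.card F)) (e : G ≃* chevE7.group F) : ¬ Good G := by
  obtain ⟨h2, k, hk, hqk⟩ := field_even he
  exact fun hG => not_good_of_out (out_E7 h2 Nat.prime_three (by norm_num) rfl (by rw [hqk]; exact three_dvd_q))
    (hG.congr e)

theorem e8 {F : Type} [Field F] [Fintype F] (he : Even (Fintype.card F)) (e : G ≃* chevE8.group F) : ¬ Good G := by
  obtain ⟨h2, k, hk, hqk⟩ := field_even he
  exact fun hG => not_good_of_out (out_E8 h2 Nat.prime_three (by norm_num) rfl (by rw [hqk]; exact three_dvd_q))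
    (hG.congr e)

theorem f4_gt {F : Type} [Field F] [Fintype F] (he : Even (Fintype.card F)) (hq : 2 < Fintype.card F)
    (e : G ≃* chevF4.group F) : ¬ Good G := by
  obtain ⟨h2, k, hk, hqk⟩ := field_even he
  exact fun hG => not_good_of_out (out_F4 h2 Nat.prime_three (by norm_num) rfl (by rw [hqk]; exact three_dvd_q) hq)
    (hG.congr e)

theorem twE6_gt {K : Type} [Field K] [Fintype K] {q : ℕ} (he : Even q) (hK : Fintype.card K = q ^ 2) (hq2 : 2 < q)
    (e : G ≃* twistedE6 K q) : ¬ Good G := by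
  obtain ⟨h2, k, hk, hqk⟩ := field_even (F := K) (by rw [hK]; exact Even.pow_of_ne_zero he two_ne_zero)
  obtain ⟨j, hj, hqj⟩ : ∃ j, j ≤ k ∧ q = 2 ^ j :=
    (Nat.dvd_prime_pow Nat.prime_two).1 (by rw [← hqk, hK]; exact dvd_pow_self q two_ne_zero)
  have hqp : IsPrimePow q := by
    rw [hqj]
    refine Nat.prime_two.isPrimePow.pow ?_
    rintro rfl
    norm_num at hqj
    omega
  have : CharP K 2 := CharTwo.of_one_ne_zero_of_two_eq_zero one_ne_zero h2
  obtain ⟨φ, hφ, hqq⟩ := Cfsg.Agent.ChevalleyStructure.TwE6Basic.exists_frob hqp hK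
  let cs : CoxeterSystem CoxeterMatrix.F₄ CoxeterMatrix.F₄.Group := CoxeterMatrix.F₄.toCoxeterSystem
  have : Finite CoxeterMatrix.F₄.Group :=
    Cfsg.Agent.Nodes.RGDChev.finite_W Cfsg.Agent.GpExc.Chev.isTy_F4 cs
  have hout : Out ↥(twistedE6 K q) 3 q 15 21 :=
    TwOut.out hφ hqq cs hq2 hK h2 Nat.prime_three (by norm_num) (by rw [hqj]; exact three_dvd_q)
      (TwCard.exists_levi hφ hqq (by omega) hK cs) (TwCard.exists_pos hφ hqq (by omega) hK cs)
  exact fun hG => not_good_of_out hout (hG.congr e)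

end Cfsg.Agent.H320.Kill
end

-- part: H320/Kill/TwESixTwo
section
/-!
# `²E_6(2)` (helper320)
-/

set_option autoImplicit false

namespace Cfsg.Agent.H320.Kill

open Cfsg Cfsg.Lie
open Cfsg.Agent.ChevalleyStructure.TwE6Basic
open Cfsg.Agent.TwoESix.LeviA Cfsg.Agent.TwoESix.LeviC Cfsg.Agent.TwoESix.LeviD Cfsg.Agent.TwoESix.LeviF
open Cfsg.Agent.TwoESix.LongPairs
open Cfsg.Agent.TwoESix.LongCard (card_levi)

universe u

theorem twE6_two {K : Type} [Field K] [Fintype K] (hK : Fintype.card K = 4) {G : Type u} [Group G]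
    (e : G ≃* twistedE6 K 2) : ¬ Good G := by
  intro hG0
  have hG := hG0.congr e
  have hfin := hG.fin
  have h3f : Fact (Nat.Prime 3) := ⟨Nat.prime_three⟩
  obtain ⟨hch, φ, F⟩ := exists_four K hK
  have hcE : Nat.card ↥(twistedE6 K 2) = 76532479683774853939200 := by
    have h := Cfsg.Agent.S1066.result (K := K) (q := 2) Nat.prime_two.isPrimePow hK
    norm_num only [] at h
    omega
  let f : ↥(LL K) →* ↥(twistedE6 K 2) := Subgroup.inclusion inf_le_right
  have hf : Function.Injective f := Subgroup.inclusion_injective _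
  have hcL : Nat.card ↥(LL K) = 9196830720 := card_levi F
  have hx : orderOf (r0 F * s0 F) = 3 := by
    refine orderOf_eq_prime (cube_r0_s0 F) ?_
    intro h
    apply r0_ne_s0 F
    have h1 := r0_sq F
    exact mul_left_cancel (h1.trans h.symm)
  have hcomm : ∀ l, f l * (r0 F * s0 F) = r0 F * s0 F * f l := by
    intro l
    obtain ⟨g, hg, hgl⟩ := exists_of_LL F l
    have h1 := lvHom_of_comm F hg
    rw [hgl] at h1
    have h2 : f l = (g : ↥(twistedE6 K 2)) := Subtype.ext h1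
    have h3 := Subgroup.mem_centralizer_singleton_iff.mp g.2
    rw [h2, ← mul_assoc, h3, mul_assoc, hg, mul_assoc]
  obtain ⟨hs, hnc⟩ := simple_LL F
  obtain ⟨i, h1, -, h3⟩ := hG.hom_data hx f hf hcomm hs hnc (by rw [hcL]; norm_num)
  obtain ⟨k, hk1, hki, hk5⟩ := h3 5 (by norm_num) (by norm_num) (by rw [hcL]; norm_num)
  rw [hcL, hcE] at h1
  have hi : i ≤ 3 := by
    by_contra hcon
    push Not at hcon
    have h5 : 3 ^ 4 * 9196830720 ∣ 76532479683774853939200 := (Nat.mul_dvd_mul_right (pow_dvd_pow 3 hcon) _).trans h1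
    norm_num at h5
  have : k = 1 ∨ k = 2 := by omega
  rcases this with rfl | rfl <;> norm_num at hk5

end Cfsg.Agent.H320.Kill
end

-- part: H320/Kill/FFourTwo
section
/-!
# `F_4(2)` (helper320)
-/

set_option autoImplicit false

namespace Cfsg.Agent.H320.Kill

open Cfsg Cfsg.Lie
open Cfsg.Agent.FourTwo.Base (LL x)
open Cfsg.Agent.LThreeFfour.Levi Cfsg.Agent.LThreeFfour.Long Cfsg.Agent.LThreeFfour.Types

universe u

theorem f4_two {F : Type} [Field F] [Fintype F] (hF : Fintype.card F = 2) {G : Type u} [Group G]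
    (e : G ≃* chevF4.group F) : ¬ Good G := by
  intro hG0
  have hcard2 : Nat.card F = 2 := by rw [Nat.card_eq_fintype_card, hF]
  obtain ⟨ef⟩ : Nonempty (F ≃+* ZMod 2) := ⟨(ZMod.ringEquivOfPrime F Nat.prime_two hF).symm⟩
  have hG : Good LL := hG0.congr (e.trans (ChevStructure.FieldMap.groupEquivOfRingEquiv chevF4 ef))
  have hfin := hG.fin
  have hcE : Nat.card LL = 3311126603366400 := by
    have h := Cfsg.Agent.S1062.result (F := ZMod 2) (q := 2) (ZMod.card 2)
    norm_num only [] at h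
    exact h
  have hcM : Nat.card ↥M0 = 1451520 := by
    rw [Nat.card_congr eqv.toEquiv, Cfsg.Agent.S0245.result (F := ZMod 2) (q := 2) (ZMod.card 2) 3]
    decide
  have hx : orderOf Y0 = 3 := by
    have h1 : orderOf (Y1 : LL) = 3 := by
      rw [← y1_order]
      exact orderOf_injective _ (Subgroup.subtype_injective _) y1
    rw [← h1, ← Y1_conj]
    exact (MulEquiv.orderOf_eq (MulAut.conj _) Y0).symm
  have hs := simple_M0
  obtain ⟨i, h1, -, h3⟩ := hG.hom_data hx M0.subtype M0.subtype_injective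
    (fun l => Subgroup.mem_centralizer_singleton_iff.mp (M0_le_cent l.2)) hs
    (not_comm_of_card hs (by rw [hcM]; norm_num)) (by rw [hcM]; norm_num)
  obtain ⟨k, hk1, hki, hk5⟩ := h3 5 (by norm_num) (by norm_num) (by rw [hcM]; norm_num)
  rw [hcM, hcE] at h1
  have hi : i ≤ 2 := by
    by_contra hcon
    push Not at hcon
    have h5 : 3 ^ 3 * 1451520 ∣ 3311126603366400 := (Nat.mul_dvd_mul_right (pow_dvd_pow 3 hcon) _).trans h1
    norm_num at h5
  have : k = 1 := by omega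
  subst this
  norm_num at hk5

end Cfsg.Agent.H320.Kill
end

-- part: H320/Kill/Tits
section
/-!
# The Tits group (helper320)

Explicit words for two elements of order three which generate an extraspecial group of order `27`.
-/

set_option autoImplicit false

namespace Cfsg.Agent.H320.Kill

open Subgroup Cfsg.Agent.ChevalleyStructure.Tits.Pack Cfsg.Agent.ChevalleyStructure.Tits.Data
  Cfsg.Agent.ChevalleyStructure.Tits.Sat Cfsg.Agent.ChevalleyStructure.Tits.Final
  Cfsg.Agent.ChevalleyStructure.Tits.Mat Cfsg.Agent.ChevalleyStructure.Tits.Order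
  Cfsg.Agent.ChevalleyStructure.Tits.Main
open Cfsg.Agent.Omega.TwoF.Tits
open scoped MatrixGroups

universe u

namespace TitsW

/-- a Heisenberg pair -/
def Heis (G : Type u) [Group G] : Prop :=
  ∃ a b z : G, a ^ 3 = 1 ∧ b ^ 3 = 1 ∧ z ^ 3 = 1 ∧ z ≠ 1 ∧ a * b = z * b * a ∧ a * z = z * a ∧ b * z = z * b

theorem Heis.congr {G : Type u} {K : Type*} [Group G] [Group K] (h : Heis G) (e : K ≃* G) : Heis K := by
  obtain ⟨a, b, z, h1, h2, h3, h4, h5, h6, h7⟩ := h
  refine ⟨e.symm a, e.symm b, e.symm z, ?_, ?_, ?_, ?_, ?_, ?_, ?_⟩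
  · rw [← map_pow, h1, map_one]
  · rw [← map_pow, h2, map_one]
  · rw [← map_pow, h3, map_one]
  · intro h
    exact h4 (e.symm.injective (by rw [h, map_one]))
  · rw [← map_mul, ← map_mul, ← map_mul, h5]
  · rw [← map_mul, ← map_mul, h6]
  · rw [← map_mul, ← map_mul, h7]

/-- words -/
def u1 : List ℕ := [8, 0]
/-- words -/
def u1i : List ℕ := [0, 8]
/-- words -/
def u2 : List ℕ := [9, 0, 8, 7, 7, 9, 1, 8, 0, 1, 1, 1, 9, 7, 7, 8, 0, 9]
/-- words -/
def u2i : List ℕ := [9, 0, 8, 7, 7, 9, 1, 0, 8, 1, 1, 1, 9, 7, 7, 8, 0, 9]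
/-- words -/
def u3 : List ℕ := u1 ++ u2 ++ u1i ++ u2i

theorem heis_C : Heis C := by
  refine ⟨⟨wH u1, wH_mem (by decide +kernel)⟩, ⟨wH u2, wH_mem (by decide +kernel)⟩,
    ⟨wH u3, wH_mem (by decide +kernel)⟩, ?_, ?_, ?_, ?_, ?_, ?_, ?_⟩
  · apply Subtype.ext
    show wH u1 ^ 3 = 1
    rw [← wH_rep]
    exact rel (v := []) (by decide +kernel)
  · apply Subtype.ext
    show wH u2 ^ 3 = 1
    rw [← wH_rep]
    exact rel (v := []) (by decide +kernel)
  · apply Subtype.ext
    show wH u3 ^ 3 = 1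
    rw [← wH_rep]
    exact rel (v := []) (by decide +kernel)
  · intro h
    have h0 : wH u3 = 1 := by
      have h1 := congrArg (fun q : C => (q : H0)) h
      exact h1
    have h1 : ((wH u3 : H0) : GL I52 (ZMod 2)) = 1 := by rw [h0]; rfl
    have h2 := coe_wH (l := u3) (by decide +kernel)
    have h3 := not_mem_of_chk (ws := []) (O := [1]) (w := u3) (by decide +kernel)
      (by intro v hv; exact absurd hv (List.not_mem_nil)) (by decide +kernel)
    apply h3
    rw [← h2, h1]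
    exact Subgroup.one_mem _
  · apply Subtype.ext
    show wH u1 * wH u2 = wH u3 * wH u2 * wH u1
    rw [← wH_append, ← wH_append, ← wH_append]
    exact rel (by decide +kernel)
  · apply Subtype.ext
    show wH u1 * wH u3 = wH u3 * wH u1
    rw [← wH_append, ← wH_append]
    exact rel (by decide +kernel)
  · apply Subtype.ext
    show wH u2 * wH u3 = wH u3 * wH u2
    rw [← wH_append, ← wH_append]
    exact rel (by decide +kernel)

theorem heis_aux (T : Subgroup (GL I52 (ZMod 2))) (hT : T = H0) : Heis (commutator T) := by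
  subst hT
  exact heis_C

end TitsW

/-- **the Tits group** -/
theorem tits {G : Type u} [Group G] (h : Cfsg.Lie.IsoTits G) : ¬ Good G := by
  obtain ⟨T, hT, ⟨e⟩⟩ := Cfsg.Agent.Omega.TwoF.TitsAut.exists_equiv h
  obtain ⟨a, b, z, h1, h2, h3, h4, h5, h6, h7⟩ := (TitsW.heis_aux T hT).congr e
  exact not_good_of_heis (by rw [Cfsg.Agent.OddRank.SzTits.tits_card h]; norm_num) h1 h2 h3 h4 h5 h6 h7

end Cfsg.Agent.H320.Kill
end

-- part: H320/Kill/Table
section
/-!
# The table: the good groups on `RestList` (helper320)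
-/

set_option autoImplicit false

namespace Cfsg.Agent.H320.Kill

open Cfsg Cfsg.Agent.SevenCases Cfsg.Agent.SigTab Cfsg.Agent.Sigma.Frame

universe u

/-- the conclusion of S3248 -/
def Concl (G : Type u) [Group G] : Prop :=
  ∃ (F : Type) (_ : Field F) (_ : Fintype F), Fintype.card F = 3 ∧
      (Nonempty (G ≃* ↥(Cfsg.Lie.chevG2.group F)) ∨ Nonempty (G ≃* Cfsg.PSp 2 F) ∨
        ∃ (K : Type) (_ : Field K) (_ : Fintype K), Fintype.card K = 9 ∧ Nonempty (G ≃* Cfsg.PSU 4 K 3))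

theorem suzuki {G : Type u} [Group G] (h : Lie.IsoSuzuki G) : ¬ Good G := by
  intro hG
  have := hG.fin
  exact not_good_of_rank (Cfsg.Agent.OddRank.SzTits.pRankLE_mono Nat.prime_three (by norm_num)
    (Cfsg.Agent.OddRank.SzTits.suzuki h Nat.prime_three (by norm_num))) hG

/-- **good groups of Lie type in characteristic two** -/
theorem lie_two {G : Type u} [Group G] (hG : Good G) (h : IsLieTypeChar 2 G) : Concl G := by
  rcases h with h | h | h | h | h | h | h | h | h | h | h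
  · -- linear
    obtain ⟨F, iF, iFt, iC, n, hn, hq, ⟨e⟩⟩ := h
    obtain ⟨f, hf1, hf⟩ := card_eq_two_pow (F := F) iC
    exact absurd hG (not_good_psl hf hn e)
  · -- symplectic
    obtain ⟨F, iF, iFt, iC, m, hm, hq, ⟨e⟩⟩ := h
    exact absurd hG (not_good_psp (Sigma.Frame.even_card_of_charP F) hm hq e)
  · -- unitary
    obtain ⟨F, iF, iFt, iC, n, q, hFq, hn, hq, ⟨e⟩⟩ := h
    obtain ⟨f, hf1, rfl⟩ := exists_two_pow (F := F) two_ne_zero hFq
    by_cases h4 : n = 4 ∧ 2 ^ f = 2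
    · obtain ⟨rfl, h4⟩ := h4
      rw [h4] at e hFq
      have : Fact (Nat.Prime 3) := ⟨Nat.prime_three⟩
      obtain ⟨g⟩ := S0822.result (F := F) (K := ZMod 3) (by rw [hFq]; norm_num) (ZMod.card 3)
      exact ⟨ZMod 3, inferInstance, inferInstance, ZMod.card 3, Or.inr (Or.inl ⟨e.trans g⟩)⟩
    · exact absurd (hG.congr e) (not_good_psu hFq rfl hn h4)
  · -- odd-dimensional orthogonal
    obtain ⟨F, iF, iFt, iC, m, hm, hq, ⟨e⟩⟩ := h
    exact absurd (Sigma.Frame.even_card_of_charP F) (Nat.not_even_iff_odd.2 hq)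
  · -- orthogonal of plus type
    obtain ⟨F, iF, iFt, iC, m, hm, ⟨e⟩⟩ := h
    exact absurd hG (not_good_plus hm e)
  · -- orthogonal of minus type
    obtain ⟨F, iF, iFt, iC, m, a, b, hm, hab, ⟨e⟩⟩ := h
    exact absurd hG (not_good_minus hab hm e)
  · -- exceptional
    obtain ⟨F, iF, iFt, iC, h⟩ := h
    obtain ⟨f, hf1, hf⟩ := card_eq_two_pow (F := F) iC
    have hev := Sigma.Frame.even_card_of_charP F
    rcases h with ⟨h3, ⟨e⟩⟩ | ⟨⟨e⟩⟩ | ⟨⟨e⟩⟩ | ⟨⟨e⟩⟩ | ⟨⟨e⟩⟩
    · refine absurd hG (g2 hf ?_ e)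
      by_contra hf2
      have h1 : f = 1 := by omega
      rw [h1] at hf
      omega
    · by_cases hc : Fintype.card F = 2
      · exact absurd hG (f4_two hc e)
      · have h2 := Fintype.one_lt_card (α := F)
        exact absurd hG (f4_gt hev (by omega) e)
    · exact absurd hG (e6 hev e)
    · exact absurd hG (e7 hev e)
    · exact absurd hG (e8 hev e)
  · -- twisted
    obtain ⟨K, iK, iKt, iC, q, hpp, h⟩ := h
    have hev := Sigma.Frame.even_card_of_charP K
    rcases h with ⟨hKq, ⟨e⟩⟩ | ⟨hKq, ⟨e⟩⟩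
    · by_cases hq2 : q = 2
      · subst hq2
        exact absurd hG (twE6_two (by rw [hKq]; norm_num) e)
      · have h2 := hpp.two_le
        exact absurd hG (twE6_gt (Sigma.Frame.even_of_pow (k := 2) (hKq ▸ hev)) hKq (by omega) e)
    · obtain ⟨f, hf1, hqf⟩ := exists_two_pow (F := K) three_ne_zero hKq
      exact absurd hG (tw_d4 hqf hf1 hKq e)
  · exact absurd hG (suzuki h.2)
  · obtain ⟨K, iK, iKt, m, hm, hK, ⟨e⟩⟩ := h.2
    exact absurd hG (tw_f4 hm hK e)
  · exact absurd h.1 (by norm_num)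

/-- **the table** -/
theorem table {G : Type u} [Group G] (hG : Good G) (hN : NotResMore.{u}) (hR : IsOfRestrictedEvenType G)
    (h : RestList G) : Concl G := by
  have hfin := hG.fin
  rcases h with h | h | h | h | h | h | h | h | h | h
  · rcases h with h | ⟨_, h⟩ | ⟨h, _⟩
    · exact lie_two hG h
    · rcases h with ⟨⟨e⟩⟩ | ⟨F, iF, iFt, hc, ⟨e⟩⟩ | h
      · exact absurd hR (hN.alt G ⟨6, ⟨by norm_num, by norm_num⟩, ⟨e⟩⟩)
      · exact absurd hR (hN.psu3 G ⟨F, iF, iFt, 3, 3, by decide, hc, rfl, ⟨e⟩⟩)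
      · exact absurd hG (tits h)
    · exact absurd h (by norm_num)
  · exact absurd hG (a8 h)
  · exact absurd hG (a12 h)
  · exact absurd hG (l43 h)
  · -- U₄(3)
    obtain ⟨F, iF, iFt, n, q, ho, hFq, ⟨rfl, rfl⟩, e⟩ := h
    have : Fact (Nat.Prime 3) := ⟨Nat.prime_three⟩
    exact ⟨ZMod 3, inferInstance, inferInstance, ZMod.card 3, Or.inr (Or.inr ⟨F, iF, iFt, by rw [hFq]; norm_num, e⟩)⟩
  · -- G₂(3)
    obtain ⟨F, iF, iFt, ho, hc, e⟩ := h
    exact ⟨F, iF, iFt, hc, Or.inl e⟩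
  · exact absurd hG (o73 h)
  · exact absurd hG (o8p3 h)
  · exact absurd hG (o8m3 h)
  · exfalso
    rcases h with h | h | h | h | h | h | h | h | h | h | h | h | h | h | h | h | h | h | h | h
    · exact m22 h hG
    · exact m23 h hG
    · exact m24 h hG
    · exact jtwo h hG
    · exact j3 h hG
    · exact j4 h hG
    · exact hs h hG
    · exact he h hG
    · exact ru h hG
    · exact suz h hG
    · exact co1 h hG
    · exact co2 h hG
    · exact co3 h hG
    · exact fi22 h hG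
    · exact fi23 h hG
    · exact fi24 h hG
    · exact hn h hG
    · exact th h hG
    · exact babyMonster h hG
    · exact monster h hG

end Cfsg.Agent.H320.Kill
end
end
end
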